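import Cfsg.Agent.Lib.RankThreeEss.Cases
import Mathlib.Data.ZMod.Units
import Mathlib.RingTheory.IntegralDomain

/-!
A rank three essential subgroup in sectional rank three is normal: the automizer on the Frattini quotient.
-/

set_option autoImplicit false
set_option linter.unusedSectionVars false
set_option linter.style.haveILetI false
set_option maxHeartbeats 2000000

open scoped commutatorElement
open Cfsg Cfsg.FusionSystem Cfsg.Agent.FusionSys Cfsg.Agent.MaxEss

namespace Cfsg.Agent.RankThreeEss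

theorem eq_top_of_map_top {E : Type*} [Group E] [Finite E] {K : Subgroup E}
    (h : K.map (QuotientGroup.mk' (frattini E)) = ⊤) : K = ⊤ := by
  refine frattini_nongenerating ?_
  have h1 := congrArg (Subgroup.comap (QuotientGroup.mk' (frattini E))) h
  rwa [Subgroup.comap_map_eq, QuotientGroup.ker_mk', Subgroup.comap_top] at h1

theorem exists_gen_unit {p : ℕ} [hp : Fact p.Prime] (h5 : 5 ≤ p) :
    ∃ s : (ZMod p)ˣ, (s : ZMod p) * s ≠ 1 ∧ (s : ZMod p) * s * s ≠ 1 ∧ (s : ZMod p) * s * s * s * s ≠ 1 := by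
  obtain ⟨s, hs⟩ := IsCyclic.exists_generator (α := (ZMod p)ˣ)
  have ho : orderOf s = p - 1 := by
    rw [orderOf_eq_card_of_forall_mem_zpowers hs, Nat.card_eq_fintype_card, ZMod.card_units]
  have key : ∀ k : ℕ, (s : ZMod p) ^ k = 1 → p - 1 ∣ k := fun k hk => by
    rw [← ho]
    exact orderOf_dvd_of_pow_eq_one (Units.ext (by rw [Units.val_pow_eq_pow_val]; exact hk))
  refine ⟨s, fun h => ?_, fun h => ?_, fun h => ?_⟩
  · have := Nat.le_of_dvd (by norm_num) (key 2 (by rw [pow_two]; exact h))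
    omega
  · have := Nat.le_of_dvd (by norm_num) (key 3 (by rw [pow_three', ← h]))
    omega
  · rcases (Nat.dvd_prime Nat.prime_five).1 (key 5 (by rw [← h]; ring)) with h' | h'
    · omega
    · have h6 : p = 6 := by omega
      exact absurd hp.out (h6 ▸ by norm_num)

variable {Ω : Type*} [Group Ω] {S : Subgroup Ω} [Finite S] {F : FusionSystem S} {p : ℕ} [hp : Fact p.Prime]

theorem core (hS : IsPGroup p S) (hF : F.IsSaturated p) (h5 : 5 ≤ p) (hsec : Cfsg.SectionalPRankLE p 3 S)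
    (E₀ : Subgroup S) (hE : F.IsEssential p (om E₀)) (hidx : (frattini E₀).index = p ^ 3) (hN : nrm E₀ ≠ ⊤)
    (hNF : F.IsFullyNormalized (om (nrm E₀))) : False := by
  haveI := finite_of_le (om_le E₀)
  have hP : IsPGroup p E₀ := hS.to_subgroup E₀
  have h3 : 3 ≤ p := by omega
  letI : CommGroup (E₀ ⧸ frattini E₀) := { (inferInstance : Group (E₀ ⧸ frattini E₀)) with
    mul_comm := fun a b => by
      obtain ⟨a, rfl⟩ := QuotientGroup.mk'_surjective (frattini E₀) a
      obtain ⟨b, rfl⟩ := QuotientGroup.mk'_surjective (frattini E₀) b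
      refine commutatorElement_eq_one_iff_mul_comm.1 ?_
      rw [← map_commutatorElement]
      exact (QuotientGroup.eq_one_iff _).2 (commutator_mem_frattini hP a b) }
  have hexp : ∀ r : E₀ ⧸ frattini E₀, r ^ p = 1 := fun r => by
    obtain ⟨g, rfl⟩ := QuotientGroup.mk'_surjective (frattini E₀) r
    rw [← map_pow]
    exact (QuotientGroup.eq_one_iff _).2 (Cfsg.Agent.PGroupBasics.pow_mem_frattini hP g)
  have hcard : Nat.card (E₀ ⧸ frattini E₀) = p ^ 3 := (Subgroup.index_eq_card _).symm.trans hidx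
  set π := QuotientGroup.mk' (frattini E₀) with hπ
  let ρ : autL F E₀ →* MulAut (E₀ ⧸ frattini E₀) := (autQuot (frattini E₀)).comp (autL F E₀).subtype
  have hρ : ∀ a : autL F E₀, ρ a = autQuot (frattini E₀) (a : MulAut E₀) := fun _ => rfl
  -- the kernel consists of inner automorphisms
  have hinn : ∀ a : autL F E₀, ρ a = 1 → MulAut.congr (eL E₀) (a : MulAut E₀) ∈ Inn (om E₀) := fun a ha => by
    rw [← (essential_radical hS hF hE).2]
    refine ⟨autEquiv E₀ a, le_sSup (s := {N : Subgroup (F.autGroup (om E₀)) | N.Normal ∧ IsPGroup p N})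
      (a := ρ.ker.map (autEquiv E₀).toMonoidHom) ⟨?_, ?_⟩ ⟨a, ha, rfl⟩, rfl⟩
    · exact Subgroup.Normal.map (MonoidHom.normal_ker ρ) _ (autEquiv E₀).surjective
    · refine IsPGroup.map ?_ _
      exact ((isPGroup_ker_autQuot hP (frattini E₀) le_rfl).comap_of_injective (autL F E₀).subtype
        (autL F E₀).subtype_injective : IsPGroup p ((autQuot (frattini E₀)).ker.comap (autL F E₀).subtype))
  have hinn' : ∀ a : autL F E₀, MulAut.congr (eL E₀) (a : MulAut E₀) ∈ Inn (om E₀) →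
      ∃ q : E₀, (a : MulAut E₀) = MulAut.conj q := fun a ⟨q, hq⟩ => by
    refine ⟨(eL E₀).symm q, MulEquiv.ext fun x => (eL E₀).injective ?_⟩
    have h := congrArg (fun γ : MulAut (om E₀) => γ (eL E₀ x)) hq
    rw [MulAut.conj_apply, map_mul, map_mul, map_inv, MulEquiv.apply_symm_apply]
    refine Eq.trans ?_ h.symm
    show eL E₀ ((a : MulAut E₀) x) = eL E₀ ((a : MulAut E₀) ((eL E₀).symm (eL E₀ x)))
    rw [MulEquiv.symm_apply_apply]
  have hlift : ∀ a b : autL F E₀, ρ a = ρ b → ∃ q : E₀, (a : MulAut E₀) = MulAut.conj q * b := fun a b h => by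
    obtain ⟨q, hq⟩ := hinn' _ (hinn (a * b⁻¹) (by rw [map_mul, map_inv, h, mul_inv_cancel]))
    refine ⟨q, ?_⟩
    rw [← hq, Subgroup.coe_mul, Subgroup.coe_inv, inv_mul_cancel_right]
  have hC := centralizerIn_le_of_centric hE.1
  have hker : ∀ g : nrm E₀, autQuot (frattini E₀) (conjN E₀ g) = 1 → g ∈ eIn E₀ := fun g hg => by
    have h := hinn ⟨conjN E₀ g, conj_mem_autL g⟩ hg
    have := mem_of_conj_mem_inn (F := F) hC (g : S).2 (om_le E₀) (fun x => by
      obtain ⟨z, rfl⟩ := (eL E₀).surjective x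
      rw [congr_eL_apply]
      rfl) h
    exact (Subgroup.mem_map_iff_mem S.subtype_injective).1 this
  -- the automizer on the quotient
  let G : Subgroup (MulAut (E₀ ⧸ frattini E₀)) := ρ.range
  haveI : Finite (MulAut (E₀ ⧸ frattini E₀)) := inferInstance
  let φ : F.autGroup (om E₀) →* G := ρ.rangeRestrict.comp (autEquiv E₀).symm.toMonoidHom
  have hφ : Function.Surjective φ := ρ.rangeRestrict_surjective.comp (autEquiv E₀).symm.surjective
  have hkφ : (Inn (om E₀)).subgroupOf (F.autGroup (om E₀)) = φ.ker := by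
    ext b
    obtain ⟨a, rfl⟩ := (autEquiv E₀).surjective b
    rw [MonoidHom.mem_ker, Subgroup.mem_subgroupOf]
    constructor
    · intro h
      obtain ⟨q, hq⟩ := hinn' a h
      refine Subtype.ext ?_
      show ρ ((autEquiv E₀).symm (autEquiv E₀ a)) = 1
      rw [MulEquiv.symm_apply_apply, hρ, hq, autQuot_conj_one hP]
    · intro h
      refine hinn a ?_
      have h' : ρ ((autEquiv E₀).symm (autEquiv E₀ a)) = 1 := congrArg Subtype.val h
      rwa [MulEquiv.symm_apply_apply] at h'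
  let e : F.autGroup (om E₀) ⧸ (Inn (om E₀)).subgroupOf (F.autGroup (om E₀)) ≃* G :=
    (QuotientGroup.quotientMulEquivOfEq hkφ).trans (QuotientGroup.quotientKerEquivOfSurjective φ hφ)
  obtain ⟨M₀, hM₀, hle⟩ := exists_stronglyEmbedded_ge_outS hS hF hE
  let M : Subgroup G := M₀.map e.toMonoidHom
  have hM : IsStronglyPEmbedded p M := stronglyEmbedded_map_equiv e hM₀
  let κ : nrm E₀ →* G := ρ.rangeRestrict.comp ((conjN E₀).codRestrict (autL F E₀) fun g => conj_mem_autL g)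
  have hκ : ∀ g, ((κ g : G) : MulAut (E₀ ⧸ frattini E₀)) = autQuot (frattini E₀) (conjN E₀ g) := fun _ => rfl
  have hκ1 : ∀ g, κ g = 1 → g ∈ eIn E₀ := fun g hg => hker g (congrArg Subtype.val hg)
  have hPM : κ.range ≤ M := by
    rintro _ ⟨g, rfl⟩
    refine ⟨outMk F (om E₀) (autEquiv E₀ ⟨conjN E₀ g, conj_mem_autL g⟩),
      hle ⟨_, conj_mem_induced (g := (g : S)) (a := conjN E₀ g) fun x => rfl, rfl⟩, ?_⟩
    refine Subtype.ext ?_
    show ρ ((autEquiv E₀).symm (autEquiv E₀ ⟨conjN E₀ g, conj_mem_autL g⟩)) = autQuot _ (conjN E₀ g)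
    rw [MulEquiv.symm_apply_apply]
    rfl
  have hPp : IsPGroup p κ.range :=
    (hS.to_subgroup (nrm E₀)).of_surjective κ.rangeRestrict κ.rangeRestrict_surjective
  obtain ⟨y, hy⟩ : ∃ y : nrm E₀, y ∉ eIn E₀ := by
    haveI := hS.isNilpotent
    have hlt : E₀ < nrm E₀ := normalizerCondition_of_isNilpotent _ (lt_top_iff_ne_top.2 fun h => hN (by
      show Subgroup.normalizer (E₀ : Set S) = ⊤
      rw [h]
      exact Subgroup.normalizer_eq_top_iff.2 inferInstance))
    obtain ⟨g, hg, hgE⟩ := SetLike.exists_of_lt hlt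
    exact ⟨⟨g, hg⟩, hgE⟩
  set α := κ y with hα
  have hα1 : α ≠ 1 := fun h => hy (hκ1 y h)
  have hP1 : κ.range ≠ ⊥ := fun h => hα1 (Subgroup.mem_bot.1 (h.le ⟨y, rfl⟩))
  have hPz : κ.range = Subgroup.zpowers α := eq_zpowers hexp hcard h3 G M hM κ.range hPp hPM hP1 ⟨y, rfl⟩ hα1
  have hαp : α ^ p = 1 := by
    obtain ⟨a, b, hab, -, -, hst⟩ := exists_chain hexp hcard hPp (G.subtype.comp κ.range.subtype)
    exact Subtype.ext (stab_pow hexp h3 (hst ⟨α, y, rfl⟩))
  have htop : eIn E₀ ⊔ Subgroup.zpowers y = ⊤ := by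
    refine eq_top_iff.2 fun g _ => ?_
    obtain ⟨k, hk⟩ := Subgroup.mem_zpowers_iff.1 (hPz.le ⟨g, rfl⟩)
    have h : g * (y ^ k)⁻¹ ∈ eIn E₀ := hκ1 _ (by rw [map_mul, map_inv, map_zpow, ← hα, hk, mul_inv_cancel])
    have h2 := mul_mem (Subgroup.mem_sup_left (T := Subgroup.zpowers y) h)
      (Subgroup.mem_sup_right (S := eIn E₀) (zpow_mem (Subgroup.mem_zpowers y) k))
    rwa [inv_mul_cancel_right] at h2
  have hyp : y ^ p ∈ eIn E₀ := hκ1 _ (by rw [map_pow]; exact hαp)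
  -- membership translations
  have hmem : ∀ {x : E₀} {H : Subgroup E₀}, x ∈ frattini E₀ ⊔ H → π x ∈ H.map π := fun {x H} h => by
    have h1 := Subgroup.mem_map_of_mem π h
    rwa [Subgroup.map_sup, hπ, QuotientGroup.map_mk'_self, bot_sup_eq] at h1
  have hmem1 : ∀ {x a : E₀}, x ∈ frattini E₀ ⊔ Subgroup.zpowers a → π x ∈ Subgroup.zpowers (π a) :=
    fun h => MonoidHom.map_zpowers π _ ▸ hmem h
  have hmem2 : ∀ {x a b : E₀}, x ∈ frattini E₀ ⊔ Subgroup.zpowers a ⊔ Subgroup.zpowers b →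
      π x ∈ Subgroup.closure ({π a, π b} : Set (E₀ ⧸ frattini E₀)) := fun {x a b} h => by
    rw [sup_assoc] at h
    have h1 := hmem h
    rw [Subgroup.map_sup, MonoidHom.map_zpowers, MonoidHom.map_zpowers] at h1
    exact (sup_le (Subgroup.zpowers_le.2 (Subgroup.subset_closure (by simp)))
      (Subgroup.zpowers_le.2 (Subgroup.subset_closure (by simp)))) h1
  have hgen3 : ∀ {a b c : E₀}, π a ≠ 1 → π b ∉ Subgroup.zpowers (π a) →
      π c ∉ Subgroup.closure ({π a, π b} : Set (E₀ ⧸ frattini E₀)) → ∀ s : Set E₀, a ∈ s → b ∈ s → c ∈ s →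
      Subgroup.closure s = ⊤ := fun ha hb hc s has hbs hcs =>
    eq_top_of_map_top (top_of_three hexp hcard (Subgroup.mem_map_of_mem π (Subgroup.subset_closure has))
      (Subgroup.mem_map_of_mem π (Subgroup.subset_closure hbs))
      (Subgroup.mem_map_of_mem π (Subgroup.subset_closure hcs)) ha hb hc)
  have hπeq : ∀ {a b : E₀}, π a = π b → a⁻¹ * b ∈ frattini E₀ := fun h => QuotientGroup.eq.1 h
  obtain ⟨s, hs2, hs3, hs5⟩ := exists_gen_unit (p := p) h5
  rcases two_cases hexp hcard h3 G M hM κ.range hPp hPM hP1 s (α := α) ⟨y, rfl⟩ hα1 with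
    ⟨v, w, u, β, h, hw1, hu1, hv1, hαv, hαw, hαu, hβw, hβv, hβu, hhv, hhw, hhu⟩ |
    ⟨v, c, w, hw1, hc1, hv1, hαv, hαc, hαw, hirr⟩
  · set t : ZMod p := ((s⁻¹ : (ZMod p)ˣ) : ZMod p) with ht
    have hst : (s : ZMod p) * t = 1 := by rw [ht, ← Units.val_mul, mul_inv_cancel, Units.val_one]
    obtain ⟨v₀, rfl⟩ := QuotientGroup.mk'_surjective (frattini E₀) v
    obtain ⟨w₀, rfl⟩ := QuotientGroup.mk'_surjective (frattini E₀) w
    obtain ⟨u₀, rfl⟩ := QuotientGroup.mk'_surjective (frattini E₀) u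
    obtain ⟨β₀, hβ₀⟩ := β.2
    obtain ⟨η, hη⟩ := h.2
    have hconj : (h : MulAut (E₀ ⧸ frattini E₀)) * (α : MulAut (E₀ ⧸ frattini E₀)) * (h : MulAut (E₀ ⧸ frattini E₀))⁻¹ =
        ev (α : MulAut (E₀ ⧸ frattini E₀)) (t * t) := by
      have hhinv : ∀ {r r' : E₀ ⧸ frattini E₀}, (h : MulAut _) r' = r → (h : MulAut _)⁻¹ r = r' :=
        fun h' => (MulEquiv.symm_apply_eq _).2 h'.symm
      have hE := top_of_three hexp hcard
        (U := MonoidHom.eqLocus (((h : MulAut (E₀ ⧸ frattini E₀)) * (α : MulAut (E₀ ⧸ frattini E₀)) *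
          (h : MulAut (E₀ ⧸ frattini E₀))⁻¹ : MulAut _).toMonoidHom)
          ((ev (α : MulAut (E₀ ⧸ frattini E₀)) (t * t) : MulAut _).toMonoidHom))
        (a := π w₀) (b := π u₀) (c := π v₀) ?_ ?_ ?_ hw1 hu1 hv1
      · exact MulEquiv.ext fun r => (hE.ge (Subgroup.mem_top r) :)
      · show (h : MulAut _) ((α : MulAut _) ((h : MulAut _)⁻¹ (π w₀))) = ev (α : MulAut _) (t * t) (π w₀)
        rw [hhinv (r' := ev (π w₀) (s : ZMod p)) (by rw [map_ev, hhw, ← ev_mul (hexp _), mul_comm, hst, ev_one]),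
          map_ev, hαw, map_ev, hhw, ← ev_mul (hexp _), mul_comm, hst, ev_one,
          ev_apply (q := 1) (by rw [one_mul]; exact hαw) (map_one _), ev_one_left, one_mul]
      · show (h : MulAut _) ((α : MulAut _) ((h : MulAut _)⁻¹ (π u₀))) = ev (α : MulAut _) (t * t) (π u₀)
        rw [hhinv hhu, hαu, hhu, ev_apply (q := 1) (by rw [one_mul]; exact hαu) (map_one _), ev_one_left, one_mul]
      · show (h : MulAut _) ((α : MulAut _) ((h : MulAut _)⁻¹ (π v₀))) = ev (α : MulAut _) (t * t) (π v₀)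
        rw [hhinv (r' := ev (π v₀) t) (by rw [map_ev, hhv, ← ev_mul (hexp _), hst, ev_one]),
          map_ev, hαv, mul_ev, map_mul, map_ev, map_ev, hhv, hhw, ← ev_mul (hexp _), ← ev_mul (hexp _), hst,
          ev_one, ev_apply hαv hαw]
    have hηn : ∀ g : nrm E₀, ∃ k : nrm E₀, (η : MulAut E₀) * conjN E₀ g * (η : MulAut E₀)⁻¹ = conjN E₀ k := by
      intro g
      obtain ⟨i, hi⟩ := exists_ev hαp (hPz.le ⟨g, rfl⟩)
      have hi' : autQuot (frattini E₀) (conjN E₀ g) = ev (α : MulAut (E₀ ⧸ frattini E₀)) i := by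
        rw [← hκ, hi]
        exact map_ev G.subtype i
      obtain ⟨q, hq⟩ := hlift (η * ⟨conjN E₀ g, conj_mem_autL g⟩ * η⁻¹)
        ⟨conjN E₀ (ev (ev y (t * t)) i), conj_mem_autL _⟩ (by
          rw [map_mul, map_mul, map_inv, hη, hρ, hρ]
          show _ * autQuot (frattini E₀) (conjN E₀ g) * _ = autQuot (frattini E₀) (conjN E₀ (ev (ev y (t * t)) i))
          rw [hi', map_ev, map_ev, map_ev, map_ev, show autQuot (frattini E₀) (conjN E₀ y) =
            (α : MulAut (E₀ ⧸ frattini E₀)) from rfl, ← hconj]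
          exact map_ev (MulAut.conj (h : MulAut (E₀ ⧸ frattini E₀))) i)
      refine ⟨lift E₀ q * ev (ev y (t * t)) i, ?_⟩
      rw [map_mul, conjN_lift]
      exact hq
    refine tCore hS hF h5 hsec E₀ hE.2.1 hNF hN hker y hy htop hyp v₀ w₀ u₀
      (hgen3 hw1 hu1 hv1 _ (by simp) (by simp) (by simp)) (by rw [map_mul]; exact hαv) hαw hαu
      (fun h' => hw1 ((QuotientGroup.eq_one_iff _).2 h')) (fun h' => hu1 (hmem1 h'))
      (fun h' => hv1 (hmem2 h')) (β₀ : MulAut E₀) (hπeq ?_) (hπeq ?_) (hπeq ?_) (η : MulAut E₀) η.2 hηn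
      (s : ZMod p) t hst hs2 hs3 hs5 ?_ (hπeq ?_) (hπeq ?_) (hπeq ?_)
    · rw [map_mul, mul_comm, ← hβw, ← hβ₀]; rfl
    · rw [show π ((β₀ : MulAut E₀) u₀) = ρ β₀ (π u₀) from rfl, hβ₀, hβu]
    · rw [show π ((β₀ : MulAut E₀) v₀) = ρ β₀ (π v₀) from rfl, hβ₀, hβv]
    · rw [map_mul, map_mul, map_inv, map_ev (conjN E₀), map_ev (autQuot _), ← hρ, hη]
      exact hconj
    · rw [show π ((η : MulAut E₀) v₀) = ρ η (π v₀) from rfl, hη, hhv, map_ev]
    · rw [show π ((η : MulAut E₀) w₀) = ρ η (π w₀) from rfl, hη, hhw, map_ev]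
    · rw [show π ((η : MulAut E₀) u₀) = ρ η (π u₀) from rfl, hη, hhu]
  · obtain ⟨v₀, rfl⟩ := QuotientGroup.mk'_surjective (frattini E₀) v
    obtain ⟨c₀, rfl⟩ := QuotientGroup.mk'_surjective (frattini E₀) c
    obtain ⟨w₀, rfl⟩ := QuotientGroup.mk'_surjective (frattini E₀) w
    refine jCore hS h5 hsec E₀ hN y hy htop hyp (fun U hU hUc => ?_) v₀ c₀ w₀
      (hgen3 hw1 hc1 hv1 _ (by simp) (by simp) (by simp)) (by rw [map_mul]; exact hαv)
      (by rw [map_mul]; exact hαc) hαw (fun h' => hw1 ((QuotientGroup.eq_one_iff _).2 h')) (fun t h' => ?_)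
      (fun h' => hc1 (hmem1 h'))
    · rcases hirr (U.map π) (by
        rintro ⟨_, a, rfl⟩ _ ⟨x, hx, rfl⟩
        exact ⟨_, char_mem hUc (a : MulAut E₀) hx, rfl⟩) with h' | h'
      · left
        have := (Subgroup.map_eq_bot_iff U).1 h'
        rwa [hπ, QuotientGroup.ker_mk'] at this
      · exact Or.inr (eq_top_of_map_top h')
    · have h1 : (ev (π c₀) t)⁻¹ * π w₀ = 1 := by
        rw [← map_ev, ← map_inv, ← map_mul]
        exact (QuotientGroup.eq_one_iff _).2 h'
      rw [inv_mul_eq_one] at h1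
      by_cases ht : t = 0
      · exact hw1 (by rw [← h1, ht, ev_zero])
      · exact hc1 (mem_of_ev (hexp _) ht (h1 ▸ Subgroup.mem_zpowers _))

/-- A rank three essential subgroup is normal. -/
theorem normal_of_rank_three (hS : IsPGroup p S) (hF : F.IsSaturated p) (h5 : 5 ≤ p)
    (hsec : Cfsg.SectionalPRankLE p 3 S) {E : Subgroup Ω} (hE : F.IsEssential p E)
    (hidx : (frattini E).index = p ^ 3) : S ≤ Subgroup.normalizer (E : Set Ω) := by
  obtain ⟨E₀, rfl⟩ := exists_om hE.1.1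
  by_cases hN : nrm E₀ = ⊤
  · intro g hg
    exact mem_normalizer_om (g := ⟨g, hg⟩) |>.2 (hN.ge (Subgroup.mem_top _))
  · exfalso
    rw [index_frattini_equiv (eL E₀)] at hidx
    obtain ⟨E₁, hE₁, hN₁, hNF, hi⟩ := exists_transport E₀ hE hN
    exact core hS hF h5 hsec E₁ hE₁ (hi.trans hidx) hN₁ hNF

end Cfsg.Agent.RankThreeEss
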