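import Cfsg.Agent.Lib.RankThreeEss.Layer

/-!
The transvection case on the second normalizer: an elementary abelian section of order `p⁴`.
-/

set_option autoImplicit false
set_option linter.unusedSectionVars false
set_option maxHeartbeats 2000000

open scoped commutatorElement

namespace Cfsg.Agent.RankThreeEss

theorem _root_.Commute.evLeft {p : ℕ} {Q : Type*} [Group Q] {a b : Q} (h : Commute a b) (c : ZMod p) :
    Commute (ev a c) b := h.pow_left c.val

theorem _root_.Commute.evRight {p : ℕ} {Q : Type*} [Group Q] {a b : Q} (h : Commute a b) (c : ZMod p) :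
    Commute a (ev b c) := h.pow_right c.val

theorem ev_iterate' {Q : Type*} [Group Q] {γ : MulAut Q} {r q : Q} (hr : γ r = q * r) (hq : γ q = q) :
    ∀ n : ℕ, (γ ^ n) r = q ^ n * r := by
  intro n
  induction n with
  | zero => simp
  | succ n ih => rw [pow_succ', MulAut.mul_apply, ih, map_mul, map_pow, hr, hq, pow_succ, mul_assoc]

theorem finish {p : ℕ} [hp : Fact p.Prime] {S0 : Type*} [Group S0] [Finite S0]
    (hsec : Cfsg.SectionalPRankLE p 3 S0) {H : Type*} [Group H] (j : H →* S0) (hj : Function.Injective j)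
    {G : Type*} [Group G] [Finite G] (hG : IsPGroup p G) (f : H →* G) (hf : Function.Surjective f)
    (Nq : Subgroup G) [Nq.Normal] (y v w u x : G) (Ψ : MulAut G) (s t : ZMod p) (hst : s * t = 1)
    (hs2 : s * s ≠ 1) (hs3 : s * s * s ≠ 1) (hs5 : s * s * s * s * s ≠ 1)
    (hNq : Subgroup.closure ({y, v, w, u} : Set G) = Nq) (htop : Nq ⊔ Subgroup.zpowers x = ⊤)
    (hyv : ⁅y, v⁆ = w) (hyw : Commute y w) (hyu : Commute y u) (hvw : Commute v w) (hvu : Commute v u)
    (hwu : Commute w u) (hy : y ^ p = 1) (hv : v ^ p = 1) (hw : w ^ p = 1) (hu : u ^ p = 1)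
    (hw1 : w ≠ 1) (hu1 : u ∉ Subgroup.zpowers w) (hy1 : y ∉ Subgroup.closure ({w, u} : Set G))
    (hxN : x ∉ Nq) (hxp : x ^ p ∈ Nq)
    (hxv : (y * v)⁻¹ * (x * v * x⁻¹) ∈ Subgroup.closure ({w, u} : Set G))
    (hxy : ⁅x, y⁆ ∈ Subgroup.closure ({w, u} : Set G)) (hxw : Commute x w) (hxu : ⁅x, u⁆ ∈ Subgroup.zpowers w)
    (hΨy : (ev y (t * t))⁻¹ * Ψ y ∈ Subgroup.closure ({w, u} : Set G))
    (hΨv : (ev v s)⁻¹ * Ψ v ∈ Subgroup.closure ({w, u} : Set G))
    (hΨw : Ψ w = ev w t) (hΨu : Ψ u = u) : False := by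
  have hyN : y ∈ Nq := hNq ▸ Subgroup.subset_closure (by simp)
  have hvN : v ∈ Nq := hNq ▸ Subgroup.subset_closure (by simp)
  have hwN : w ∈ Nq := hNq ▸ Subgroup.subset_closure (by simp)
  have huN : u ∈ Nq := hNq ▸ Subgroup.subset_closure (by simp)
  set Z := Subgroup.closure ({w, u} : Set G) with hZ
  have hwZ : w ∈ Z := Subgroup.subset_closure (Or.inl rfl)
  have huZ : u ∈ Z := Subgroup.subset_closure (Or.inr rfl)
  have hgen : ∀ x' : G, Nq ⊔ Subgroup.zpowers x' = ⊤ → Subgroup.closure ({x', y, v, w, u} : Set G) = ⊤ := by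
    intro x' h
    rw [eq_top_iff, ← h, ← hNq]
    exact sup_le (Subgroup.closure_mono (by simp)) (Subgroup.zpowers_le.2 (Subgroup.subset_closure (by simp)))
  have central : ∀ {a : G}, Commute x a → Commute y a → Commute v a → Commute w a → Commute u a →
      ∀ g, Commute a g := by
    intro a h1 h2 h3 h4 h5 g
    have hle : Subgroup.closure ({x, y, v, w, u} : Set G) ≤ Subgroup.centralizer {a} :=
      (Subgroup.closure_le _).2 (by
        rintro b (rfl | rfl | rfl | rfl | rfl) <;> refine Subgroup.mem_centralizer_iff.2 ?_ <;>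
          rintro c rfl
        exacts [h1.eq.symm, h2.eq.symm, h3.eq.symm, h4.eq.symm, h5.eq.symm])
    exact Subgroup.mem_centralizer_iff.1 (hle ((hgen x htop).ge (Subgroup.mem_top g))) a rfl
  have hwc : ∀ g, Commute w g := central hxw hyw hvw (Commute.refl w) hwu.symm
  have hpair : ∀ {z : G}, z ∈ Z → ∃ i k : ZMod p, z = ev w i * ev u k := fun hz => exists_pair_ev hwc hw hu hz
  -- normalize `x`
  obtain ⟨k0, f0, hk0⟩ := hpair hxy
  obtain ⟨x, hxN, hxp, htop, hxv, hxy, hxu⟩ : ∃ x' : G, x' ∉ Nq ∧ x' ^ p ∈ Nq ∧ Nq ⊔ Subgroup.zpowers x' = ⊤ ∧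
      (y * v)⁻¹ * (x' * v * x'⁻¹) ∈ Z ∧ ⁅x', y⁆ = ev u f0 ∧ ⁅x', u⁆ ∈ Subgroup.zpowers w := by
    have hk : ev v k0 ∈ Nq := ev_mem hvN _
    refine ⟨x * ev v k0, fun h => hxN ((Subgroup.mul_mem_cancel_right _ hk).1 h), ?_, ?_, ?_, ?_, ?_⟩
    · refine (QuotientGroup.eq_one_iff _).1 (show QuotientGroup.mk' Nq ((x * ev v k0) ^ p) = 1 from ?_)
      rw [map_pow, map_mul, show QuotientGroup.mk' Nq (ev v k0) = 1 from (QuotientGroup.eq_one_iff _).2 hk,
        mul_one, ← map_pow]
      exact (QuotientGroup.eq_one_iff _).2 hxp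
    · rw [eq_top_iff, ← htop]
      refine sup_le le_sup_left (Subgroup.zpowers_le.2 ?_)
      have := mul_mem (Subgroup.mem_sup_right (S := Nq) (Subgroup.mem_zpowers (x * ev v k0)))
        (Subgroup.mem_sup_left (T := Subgroup.zpowers (x * ev v k0)) (inv_mem hk))
      rwa [mul_inv_cancel_right] at this
    · rwa [show x * ev v k0 * v * (x * ev v k0)⁻¹ = x * (ev v k0 * v * (ev v k0)⁻¹) * x⁻¹ by group,
        show ev v k0 * v * (ev v k0)⁻¹ = v by
          rw [((Commute.refl v).evLeft k0 : Commute (ev v k0) v).eq, mul_inv_cancel_right]]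
    · have hvy : ⁅v, y⁆ = w⁻¹ := by rw [← commutatorElement_inv y v, hyv]
      rw [show ⁅x * ev v k0, y⁆ = x * ⁅ev v k0, y⁆ * x⁻¹ * ⁅x, y⁆ by
          simp only [commutatorElement_def]; group,
        comm_ev_left (by rw [hvy]; exact fun g => (hwc g).inv_left), hvy, hk0, ev, inv_pow, ← ev,
        show x * (ev w k0)⁻¹ * x⁻¹ = (ev w k0)⁻¹ by
          rw [← (((hwc x).evLeft k0).inv_left : Commute (ev w k0)⁻¹ x).eq, mul_inv_cancel_right],
        inv_mul_cancel_left]
    · rwa [show ⁅x * ev v k0, u⁆ = x * ⁅ev v k0, u⁆ * x⁻¹ * ⁅x, u⁆ by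
          simp only [commutatorElement_def]; group,
        commutatorElement_eq_one_iff_commute.2 (hvu.evLeft _), mul_one, mul_inv_cancel, one_mul]
  clear hk0 hxw k0
  -- the action on `G ⧸ Z`
  obtain ⟨ku, hku⟩ := exists_ev hw hxu
  haveI hZn : Z.Normal := by
    refine normal_of_gen (hgen x htop) fun g hg z hz => ?_
    obtain ⟨i, k, rfl⟩ := hpair hz
    have hgu : g * u * g⁻¹ ∈ Z := by
      rw [show g * u * g⁻¹ = ⁅g, u⁆ * u by rw [commutatorElement_def, inv_mul_cancel_right]]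
      refine mul_mem ?_ huZ
      rcases hg with rfl | rfl | rfl | rfl | rfl
      · rw [hku]; exact ev_mem hwZ _
      all_goals rw [commutatorElement_eq_one_iff_commute.2 ?_]
      all_goals first | exact one_mem Z | exact hyu | exact hvu | exact hwu | exact Commute.refl _
    rw [show g * (ev w i * ev u k) * g⁻¹ = (g * ev w i * g⁻¹) * (g * ev u k * g⁻¹) by group,
      ← ((hwc g).evLeft i : Commute (ev w i) g).eq, mul_inv_cancel_right]
    refine mul_mem (ev_mem hwZ i) ?_
    rw [ev, ← conj_pow]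
    exact pow_mem hgu _
  set π := QuotientGroup.mk' Z with hπ
  set X := π x with hX
  set Y := π y with hY
  set V := π v with hV
  have hπ1 : ∀ {z : G}, z ∈ Z → π z = 1 := fun hz => (QuotientGroup.eq_one_iff _).2 hz
  have hYV : Commute Y V := by
    rw [← commutatorElement_eq_one_iff_commute, hY, hV, ← map_commutatorElement, hyv]; exact hπ1 hwZ
  have hXV : MulAut.conj X V = Y * V := by
    rw [MulAut.conj_apply, hX, hY, hV, ← map_inv, ← map_mul, ← map_mul, ← map_mul]
    exact (QuotientGroup.eq.2 hxv).symm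
  have hXY : MulAut.conj X Y = Y := by
    rw [MulAut.conj_apply, mul_inv_eq_iff_eq_mul]
    refine commutatorElement_eq_one_iff_mul_comm.1 ?_
    rw [hX, hY, ← map_commutatorElement, hxy]
    exact hπ1 (ev_mem huZ _)
  have hYp : Y ^ p = 1 := by rw [hY, ← map_pow, hy, map_one]
  have hY1 : Y ≠ 1 := fun h => hy1 ((QuotientGroup.eq_one_iff _).1 h)
  have hcoord : ∀ n ∈ Nq, ∃ (i b : ZMod p) (z : G), z ∈ Z ∧ n = ev y i * (ev v b * z) := by
    intro n hn
    have hle : Nq ≤ ((Subgroup.closure ({Y, V} : Set (G ⧸ Z))).comap π) := by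
      rw [← hNq, Subgroup.closure_le]
      rintro a (rfl | rfl | rfl | rfl)
      exacts [Subgroup.subset_closure (Or.inl rfl), Subgroup.subset_closure (Or.inr rfl),
        Subgroup.mem_comap.2 (by rw [hπ1 hwZ]; exact one_mem _),
        Subgroup.mem_comap.2 (by rw [hπ1 huZ]; exact one_mem _)]
    haveI := comm_closure (s := ({Y, V} : Set (G ⧸ Z))) (by
      rintro a (rfl | rfl) b (rfl | rfl)
      exacts [Commute.refl _, hYV, hYV.symm, Commute.refl _])
    have hn' := hle hn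
    have hcY : Y ∈ Subgroup.closure ({Y, V} : Set (G ⧸ Z)) := Subgroup.subset_closure (Or.inl rfl)
    have hcV : V ∈ Subgroup.closure ({Y, V} : Set (G ⧸ Z)) := Subgroup.subset_closure (Or.inr rfl)
    have hcl : (⟨π n, hn'⟩ : Subgroup.closure ({Y, V} : Set (G ⧸ Z))) ∈ Subgroup.closure {⟨Y, hcY⟩, ⟨V, hcV⟩} := by
      have : Subgroup.closure ({⟨Y, hcY⟩, ⟨V, hcV⟩} : Set (Subgroup.closure ({Y, V} : Set (G ⧸ Z)))) = ⊤ := by
        refine Subgroup.map_injective (Subgroup.closure ({Y, V} : Set (G ⧸ Z))).subtype_injective ?_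
        rw [MonoidHom.map_closure, ← MonoidHom.range_eq_map, Subgroup.range_subtype]
        simp [Set.image_insert_eq]
      rw [this]
      trivial
    obtain ⟨i, b, hib⟩ := exists_pair_ev
      (fun g => (mul_comm' (⟨Y, hcY⟩ : Subgroup.closure ({Y, V} : Set (G ⧸ Z))) g : _))
      (Subtype.ext hYp) (Subtype.ext (show V ^ p = 1 by rw [hV, ← map_pow, hv, map_one])) hcl
    have hib' : π n = ev Y i * ev V b := congrArg Subtype.val hib
    refine ⟨i, b, (ev v b)⁻¹ * ((ev y i)⁻¹ * n), ?_, by rw [mul_inv_cancel_left, mul_inv_cancel_left]⟩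
    have h : (ev y i * ev v b)⁻¹ * n ∈ Z := QuotientGroup.eq.1 (show π (ev y i * ev v b) = π n by
      rw [map_mul, map_ev, map_ev, hib'])
    rwa [mul_inv_rev, mul_assoc] at h
  -- the exponent on `x`
  obtain ⟨κ, hκ⟩ := exists_ev_sup hxp (htop.ge (Subgroup.mem_top (Ψ x)))
  obtain ⟨n, hn, hΨx⟩ : ∃ n ∈ Nq, Ψ x = ev x κ * n := ⟨_, hκ, (mul_inv_cancel_left _ _).symm⟩
  obtain ⟨i, b, zn, hzn, hne⟩ := hcoord n hn
  have htt : t * t ≠ 1 := fun h => hs2 (by linear_combination (s * t + 1) * hst - s * s * h)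
  have ht0 : t ≠ 0 := fun h => by rw [h, mul_zero] at hst; exact zero_ne_one hst
  have ht3 : t * t * t ≠ 1 := fun h => hs3 (by
    linear_combination ((s * t) * (s * t) + s * t + 1) * hst - s * s * s * h)
  have ht5 : t * t * t * t * t ≠ 1 := fun h => hs5 (by
    linear_combination ((s * t) ^ 4 + (s * t) ^ 3 + (s * t) ^ 2 + s * t + 1) * hst - s * s * s * s * s * h)
  have hκ3 : κ = t * t * t := by
    obtain ⟨z1, hz1, hxv'⟩ : ∃ z ∈ Z, x * v * x⁻¹ = y * v * z := ⟨_, hxv, (mul_inv_cancel_left _ _).symm⟩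
    have h := congrArg (fun r => π (Ψ r)) hxv'
    simp only [map_mul, map_inv, hΨx] at h
    rw [show π (Ψ z1) = 1 from hπ1 (by
      obtain ⟨a, c, rfl⟩ := hpair hz1
      rw [map_mul, map_ev, map_ev, hΨw, hΨu]
      exact mul_mem (ev_mem (ev_mem hwZ _) _) (ev_mem huZ _)),
      show π (Ψ v) = ev V s by rw [hV, ← map_ev]; exact (QuotientGroup.eq.2 hΨv).symm,
      show π (Ψ y) = ev Y (t * t) by rw [hY, ← map_ev]; exact (QuotientGroup.eq.2 hΨy).symm,
      show π n = ev Y i * ev V b by rw [hne, map_mul, map_mul, map_ev, map_ev, hπ1 hzn, mul_one],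
      map_ev, ← hX, mul_one] at h
    have hcomm : Commute (ev Y i * ev V b) (ev V s) :=
      ((hYV.pow_pow i.val s.val).mul_left ((Commute.refl V).pow_pow b.val s.val) :)
    rw [mul_inv_rev, show ev X κ * (ev Y i * ev V b) * ev V s * ((ev Y i * ev V b)⁻¹ * (ev X κ)⁻¹) =
      ev X κ * (ev Y i * ev V b * ev V s * (ev Y i * ev V b)⁻¹) * (ev X κ)⁻¹ by group, hcomm.eq,
      mul_inv_cancel_right, ← MulAut.conj_apply, map_ev (MulAut.conj (ev X κ)),
      map_ev (MulAut.conj : G ⧸ Z →* MulAut (G ⧸ Z)), show ev (MulAut.conj X) κ V = ev Y κ * V from ev_iterate' hXV hXY _] at h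
    have h' : ev (ev Y κ) s * ev V s = ev Y (t * t) * ev V s := by
      rw [← h]
      exact ((hYV.evLeft κ).mul_pow s.val).symm
    rw [mul_left_inj, ← ev_mul hYp] at h'
    have h2 := ev_inj hYp hY1 h'
    linear_combination t * h2 - κ * hst
  -- `u` is central
  have hind : ∀ a c : ZMod p, ev w a * ev u c = 1 → a = 0 ∧ c = 0 := by
    intro a c h
    have hc : c = 0 := by
      by_contra hc
      refine hu1 (mem_of_ev hu hc ?_)
      rw [← inv_eq_of_mul_eq_one_right h]
      exact inv_mem (ev_mem (Subgroup.mem_zpowers w) a)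
    rw [hc, ev_zero, mul_one] at h
    exact ⟨ev_eq_one hw hw1 h, hc⟩
  have hku0 : ku = 0 := by
    have h := congrArg Ψ hku
    have hnu : Commute n u := by
      obtain ⟨a, c, hac⟩ := hpair hzn
      rw [hne, hac]
      exact (hyu.evLeft _).mul_left ((hvu.evLeft _).mul_left
        ((hwu.evLeft _).mul_left ((Commute.refl u).evLeft _)))
    rw [map_commutatorElement, hΨx, hΨu, map_ev, hΨw,
      show ⁅ev x κ * n, u⁆ = ev x κ * ⁅n, u⁆ * (ev x κ)⁻¹ * ⁅ev x κ, u⁆ by
        simp only [commutatorElement_def]; group,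
      commutatorElement_eq_one_iff_commute.2 hnu, mul_one, mul_inv_cancel, one_mul,
      comm_ev_left (by rw [hku]; exact fun g => (hwc g).evLeft _), hku, ← ev_mul hw, ← ev_mul hw] at h
    have h2 := ev_inj hw hw1 h
    rw [hκ3] at h2
    have h3 : ku * (t * (t * t - 1)) = 0 := by linear_combination h2
    exact (mul_eq_zero.1 h3).resolve_right (mul_ne_zero ht0 (sub_ne_zero.2 htt))
  rw [hku0, ev_zero] at hku
  have hxw' : Commute x w := (hwc x).symm
  have huc : ∀ g, Commute u g := by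
    intro g
    have hle : Subgroup.closure ({x, y, v, w, u} : Set G) ≤ Subgroup.centralizer {u} :=
      (Subgroup.closure_le _).2 (by
        rintro b (rfl | rfl | rfl | rfl | rfl) <;> refine Subgroup.mem_centralizer_iff.2 ?_ <;> rintro c rfl
        exacts [(commutatorElement_eq_one_iff_commute.1 hku).eq.symm, hyu.eq.symm, hvu.eq.symm, hwu.eq.symm, rfl])
    exact Subgroup.mem_centralizer_iff.1 (hle ((hgen x htop).ge (Subgroup.mem_top g))) u rfl
  have hZc : ∀ z ∈ Z, ∀ g, Commute z g := by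
    intro z hz g
    obtain ⟨a, c, rfl⟩ := hpair hz
    exact ((hwc g).evLeft _).mul_left ((huc g).evLeft _)
  have hZp : ∀ z ∈ Z, z ^ p = 1 := by
    intro z hz
    obtain ⟨a, c, rfl⟩ := hpair hz
    rw [(((hwc u).evLeft a).evRight c : Commute (ev w a) (ev u c)).mul_pow, ev_pow_p hw, ev_pow_p hu,
      one_mul]
  -- `x` commutes with `y`
  have hvy : ⁅v, y⁆ = w⁻¹ := by rw [← commutatorElement_inv y v, hyv]
  have hvyc : ∀ g, Commute ⁅v, y⁆ g := by rw [hvy]; exact fun g => (hwc g).inv_left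
  have hn_y : ⁅n, y⁆ = (ev w b)⁻¹ := by
    have hz : ⁅ev v b * zn, y⁆ = (ev w b)⁻¹ := by
      rw [← (hZc zn hzn (ev v b)).eq, comm_central_left (hZc zn hzn), comm_ev_left hvyc, hvy, ev, inv_pow]
      rfl
    rw [hne, comm_mul_left (by rw [hz]; exact fun g => ((hwc g).evLeft _).inv_left), hz,
      commutatorElement_eq_one_iff_commute.2 ((Commute.refl y).evLeft _), one_mul]
  obtain ⟨zy, hzy, hΨy'⟩ : ∃ z ∈ Z, Ψ y = ev y (t * t) * z := ⟨_, hΨy, (mul_inv_cancel_left _ _).symm⟩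
  have hnym : ⁅n, ev y (t * t)⁆ = ev w (-(b * (t * t))) := by
    rw [comm_ev_right (by rw [hn_y]; exact fun g => ((hwc g).evLeft _).inv_left), hn_y, ← ev_neg hw,
      ← ev_mul hw, neg_mul]
  have hxyc0 : ∀ g, Commute ⁅x, y⁆ g := by rw [hxy]; exact fun g => (huc g).evLeft _
  have hxκy : ⁅ev x κ, y⁆ = ev u (f0 * κ) := by rw [comm_ev_left hxyc0, hxy, ← ev_mul hu]
  have hxym : ⁅ev x κ, ev y (t * t)⁆ = ev u (f0 * κ * (t * t)) := by
    rw [comm_ev_right (by rw [hxκy]; exact fun g => (huc g).evLeft _), hxκy, ← ev_mul hu]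
  have hmain : b = 0 ∧ f0 = 0 := by
    have h := congrArg Ψ hxy
    rw [map_commutatorElement, hΨx, hΨy', map_ev, hΨu, ← (hZc zy hzy (ev y (t * t))).eq,
      comm_central_right (hZc zy hzy),
      show ⁅ev x κ * n, ev y (t * t)⁆ = ev x κ * ⁅n, ev y (t * t)⁆ * (ev x κ)⁻¹ * ⁅ev x κ, ev y (t * t)⁆ by
        simp only [commutatorElement_def]; group,
      hnym, ← ((hwc (ev x κ)).evLeft (-(b * (t * t))) :
        Commute (ev w (-(b * (t * t)))) (ev x κ)).eq, mul_inv_cancel_right, hxym] at h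
    have h' : ev w (-(b * (t * t))) * ev u (f0 * κ * (t * t) - f0) = 1 := by
      rw [sub_eq_add_neg, ev_add hu, ← mul_assoc, h, ev_neg hu, mul_inv_cancel]
    obtain ⟨h1, h2⟩ := hind _ _ h'
    refine ⟨?_, ?_⟩
    · exact (mul_eq_zero.1 (neg_eq_zero.1 h1)).resolve_right (mul_ne_zero ht0 ht0)
    · rw [hκ3] at h2
      have h3 : f0 * (t * t * t * t * t - 1) = 0 := by linear_combination h2
      exact (mul_eq_zero.1 h3).resolve_right (sub_ne_zero.2 ht5)
  obtain ⟨hb, hf0⟩ := hmain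
  rw [hf0, ev_zero] at hxy
  have hxyc : Commute x y := commutatorElement_eq_one_iff_commute.1 hxy
  rw [hb, ev_zero, one_mul] at hne
  have hxn : Commute x n := by rw [hne]; exact (hxyc.evRight _).mul_right (hZc zn hzn x).symm
  have hnp : n ^ p = 1 := by
    rw [hne, ((hZc zn hzn (ev y i)).symm).mul_pow, ev_pow_p hy, hZp zn hzn, one_mul]
  -- the p-th power of `x`
  obtain ⟨a, c, zp, hzp, hxpe⟩ := hcoord _ hxp
  have hc0 : c = 0 := by
    have h := congrArg π (show x * x ^ p * x⁻¹ = x ^ p by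
      rw [(Commute.self_pow x p).eq, mul_inv_cancel_right])
    rw [map_mul, map_mul, map_inv, ← hX, hxpe, map_mul, map_mul, map_ev, map_ev, hπ1 hzp, mul_one, ← hY, ← hV,
      ← MulAut.conj_apply, map_mul, map_ev, map_ev, hXY, hXV, mul_right_inj] at h
    have h' : ev Y c * ev V c = ev V c := (hYV.mul_pow c.val).symm.trans h
    exact ev_eq_one hYp hY1 (mul_eq_right.1 h')
  rw [hc0, ev_zero, one_mul] at hxpe
  have ha0 : a = 0 := by
    obtain ⟨z1, hz1, hxv'⟩ : ∃ z ∈ Z, x * v * x⁻¹ = y * v * z := ⟨_, hxv, (mul_inv_cancel_left _ _).symm⟩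
    set q := y * z1 with hq
    have hqv : MulAut.conj x v = q * v := by
      rw [MulAut.conj_apply, hxv', hq, mul_assoc, mul_assoc, (hZc z1 hz1 v).eq]
    have hqq : MulAut.conj x q = q := by
      rw [MulAut.conj_apply, hq, (hxyc.mul_right (hZc z1 hz1 x).symm).eq, mul_inv_cancel_right]
    have h := ev_iterate' hqv hqq p
    rw [← map_pow, MulAut.conj_apply, show q ^ p = 1 by
      rw [hq, ((hZc z1 hz1 y).symm).mul_pow, hy, hZp z1 hz1, one_mul], one_mul] at h
    have h2 : ⁅x ^ p, v⁆ = 1 := by rw [commutatorElement_def, h, mul_inv_cancel]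
    rw [hxpe, ← (hZc zp hzp (ev y a)).eq, comm_central_left (hZc zp hzp),
      comm_ev_left (by rw [hyv]; exact hwc), hyv] at h2
    exact ev_eq_one hw hw1 h2
  rw [ha0, ev_zero, one_mul] at hxpe
  have hx1 : x ^ p = 1 := by
    obtain ⟨k, l, hkl⟩ := hpair hzp
    rw [hkl] at hxpe
    have h := congrArg Ψ hxpe
    have h1 : Commute (ev x κ) n := hxn.evLeft _
    rw [map_pow, hΨx, h1.mul_pow, hnp, mul_one, map_mul, map_ev, map_ev, hΨw, hΨu,
      show (ev x κ) ^ p = ev (x ^ p) κ by rw [ev, ev, ← pow_mul, ← pow_mul, mul_comm], hxpe,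
      show ev (ev w k * ev u l) κ = ev (ev w k) κ * ev (ev u l) κ from
        (((hwc u).evLeft k).evRight l).mul_pow κ.val,
      ← ev_mul hw, ← ev_mul hu, ← ev_mul hw] at h
    have h' : ev w (k * κ - t * k) * ev u (l * κ - l) = 1 := by
      rw [sub_eq_add_neg, sub_eq_add_neg, ev_add hw, ev_add hu, ev_neg hw, ev_neg hu]
      calc ev w (k * κ) * (ev w (t * k))⁻¹ * (ev u (l * κ) * (ev u l)⁻¹)
          = (ev w (k * κ) * ev u (l * κ)) * (ev w (t * k) * ev u l)⁻¹ := by
            rw [mul_inv_rev, mul_assoc, mul_assoc,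
              ← mul_assoc (ev w (t * k))⁻¹, ((hwc (ev u (l * κ))).evLeft _).inv_left.eq, mul_assoc,
              (((hwc (ev u l)⁻¹).evLeft (t * k)).inv_left : Commute (ev w (t * k))⁻¹ _).eq]
        _ = 1 := by rw [h, mul_inv_cancel]
    obtain ⟨hk, hl⟩ := hind _ _ h'
    rw [hκ3] at hk hl
    have hk' : k = 0 := by
      have : k * (t * (t * t - 1)) = 0 := by linear_combination hk
      exact (mul_eq_zero.1 this).resolve_right (mul_ne_zero ht0 (sub_ne_zero.2 htt))
    have hl' : l = 0 := by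
      have : l * (t * t * t - 1) = 0 := by linear_combination hl
      exact (mul_eq_zero.1 this).resolve_right (sub_ne_zero.2 ht3)
    rw [hxpe, hk', hl', ev_zero, ev_zero, one_mul]
  -- four commuting independent elements
  obtain ⟨a0, ha0'⟩ := hf w
  obtain ⟨a1, ha1'⟩ := hf u
  obtain ⟨a2, ha2'⟩ := hf y
  obtain ⟨a3, ha3'⟩ := hf x
  refine rank_contra hsec j hj f ![a0, a1, a2, a3] hG ?_ ?_ ?_ ?_ ?_ ?_
  · intro i k
    fin_cases i <;> fin_cases k <;>
      simp only [Matrix.cons_val, Fin.isValue, Fin.zero_eta, Fin.mk_one, Fin.reduceFinMk, ha0', ha1', ha2', ha3']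
    all_goals first
      | exact hwc _
      | exact (hwc _).symm
      | exact huc _
      | exact (huc _).symm
      | exact hxyc
      | exact hxyc.symm
      | exact Commute.refl _
  · intro i
    fin_cases i <;>
      simp only [Matrix.cons_val, Fin.isValue, Fin.zero_eta, Fin.mk_one, Fin.reduceFinMk, ha0', ha1', ha2', ha3']
    exacts [hw, hu, hy, hx1]
  · show f a0 ≠ 1
    rw [ha0']; exact hw1
  · show f a1 ∉ Subgroup.closure {f a0}
    rw [ha0', ha1', ← Subgroup.zpowers_eq_closure]; exact hu1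
  · show f a2 ∉ Subgroup.closure {f a0, f a1}
    rw [ha0', ha1', ha2']; exact hy1
  · show f a3 ∉ Subgroup.closure {f a0, f a1, f a2}
    rw [ha0', ha1', ha2', ha3']
    refine fun h => hxN ((Subgroup.closure_le _).2 ?_ h)
    rintro e (rfl | rfl | rfl) <;> assumption

end Cfsg.Agent.RankThreeEss
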