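import Cfsg.Agent.Lib.RankThreeEss.Layer

/-!
The transvection case on the first two layers of the essential subgroup.
-/

set_option autoImplicit false
set_option linter.unusedSectionVars false
set_option maxHeartbeats 2000000

open scoped commutatorElement

namespace Cfsg.Agent.RankThreeEss

theorem tLayer {p : ℕ} [hp : Fact p.Prime] {E : Type*} [Group E] [Finite E] (hE : IsPGroup p E) (h5 : 5 ≤ p)
    {S0 : Type*} [Group S0] [Finite S0] (hsec : Cfsg.SectionalPRankLE p 3 S0) (j : E →* S0)
    (hj : Function.Injective j) (α β η : MulAut E) (v w u : E) (hgen : Subgroup.closure ({v, w, u} : Set E) = ⊤)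
    (hαv : (w * v)⁻¹ * α v ∈ frattini E) (hαw : w⁻¹ * α w ∈ frattini E) (hαu : u⁻¹ * α u ∈ frattini E)
    (hβw : (v * w)⁻¹ * β w ∈ frattini E) (hβu : u⁻¹ * β u ∈ frattini E) (hβv : v⁻¹ * β v ∈ frattini E)
    (s t : ZMod p) (hst : s * t = 1) (hs2 : s * s ≠ 1)
    (hηv : (ev v s)⁻¹ * η v ∈ frattini E) (hηw : (ev w t)⁻¹ * η w ∈ frattini E)
    (hηu : u⁻¹ * η u ∈ frattini E)
    (hw : w ∉ frattini E) (hv : v ∉ frattini E ⊔ Subgroup.zpowers w)
    (g : E) (hg : g ∈ frattini E) (hαp : α ^ p = MulAut.conj g) :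
    ⁅v, u⁆ ∈ low p E ∧ ⁅w, u⁆ ∈ low p E ∧ v ^ p ∈ low p E ∧ w ^ p ∈ low p E ∧
      frattini E ≤ low p E ⊔ Subgroup.closure {⁅v, w⁆, u ^ p} := by
  have hp2 : p ≠ 2 := by omega
  have hcl := layer_comm_central (p := p) hE
  have hcp := layer_comm_pow (p := p) hE
  set A := autQuot (low p E) α with hA
  set Bq := autQuot (low p E) β with hBq
  set H := autQuot (low p E) η with hH
  set q : E →* Layer p E := proj with hq
  set V := q v with hV
  set W := q w with hW
  set X := q u with hX
  have cz := fun {x : Layer p E} (hx : x ∈ dLayer p E) => dLayer_central hx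
  have hπ : ∀ x : Layer p E, powHom hE hp2 x = x ^ p := fun x => rfl
  have hπD : ∀ {x : Layer p E}, x ∈ dLayer p E → powHom hE hp2 x = 1 := fun hx => dLayer_pow hx
  have hshift : ∀ (x y : E), y⁻¹ * x ∈ frattini E → ∃ φ ∈ dLayer p E, q x = φ * q y := fun x y h =>
    ⟨q (y⁻¹ * x), ⟨_, h, rfl⟩, by
      rw [(dLayer_central ⟨_, h, rfl⟩ (q y)).eq, ← map_mul, mul_inv_cancel_left]⟩
  obtain ⟨φ1, hφ1, eV⟩ := hshift _ _ hαv
  obtain ⟨φ2, hφ2, eW⟩ := hshift _ _ hαw
  obtain ⟨φ3, hφ3, eX⟩ := hshift _ _ hαu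
  obtain ⟨φ4, hφ4, eβW⟩ := hshift _ _ hβw
  obtain ⟨φ5, hφ5, eβX⟩ := hshift _ _ hβu
  obtain ⟨φ9, hφ9, eβV⟩ := hshift _ _ hβv
  obtain ⟨φ6, hφ6, eηV⟩ := hshift _ _ hηv
  obtain ⟨φ7, hφ7, eηW⟩ := hshift _ _ hηw
  obtain ⟨φ8, hφ8, eηX⟩ := hshift _ _ hηu
  have hAV : A V = φ1 * (W * V) := by rw [hA, hV, autQuot_mk, hW, ← map_mul]; exact eV
  have hAW : A W = φ2 * W := by rw [hA, hW, autQuot_mk]; exact eW
  have hAX : A X = φ3 * X := by rw [hA, hX, autQuot_mk]; exact eX
  have hBW : Bq W = φ4 * (V * W) := by rw [hBq, hW, autQuot_mk, hV, ← map_mul]; exact eβW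
  have hBX : Bq X = φ5 * X := by rw [hBq, hX, autQuot_mk]; exact eβX
  have hBV : Bq V = φ9 * V := by rw [hBq, hV, autQuot_mk]; exact eβV
  have hHV : H V = φ6 * ev V s := by rw [hH, hV, autQuot_mk, ← map_ev q]; exact eηV
  have hHW : H W = φ7 * ev W t := by rw [hH, hW, autQuot_mk, ← map_ev q]; exact eηW
  have hHX : H X = φ8 * X := by rw [hH, hX, autQuot_mk]; exact eηX
  set d := ⁅V, W⁆ with hd
  set e1 := ⁅V, X⁆ with he1
  set e2 := ⁅W, X⁆ with he2
  have hAd : A d = 1 * d := by
    rw [hd, map_commutatorElement, hAV, hAW, comm_central_left (cz hφ1), comm_central_right (cz hφ2),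
      comm_mul_left (hcl V W), commutatorElement_self]
  have hAe1 : A e1 = e2 * e1 := by
    rw [he1, map_commutatorElement, hAV, hAX, comm_central_left (cz hφ1), comm_central_right (cz hφ3),
      comm_mul_left (hcl V X)]
  have hAe2 : A e2 = 1 * e2 := by
    rw [he2, map_commutatorElement, hAW, hAX, comm_central_left (cz hφ2), comm_central_right (cz hφ3), one_mul]
  have hBe2 : Bq e2 = e1 * e2 := by
    rw [he2, map_commutatorElement, hBW, hBX, comm_central_left (cz hφ4), comm_central_right (cz hφ5),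
      comm_mul_left (hcl W X)]
  have hHd : H d = d := by
    rw [hd, map_commutatorElement, hHV, hHW, comm_central_left (cz hφ6), comm_central_right (cz hφ7),
      comm_ev_left (hcl V (ev W t)), comm_ev_right (hcl V W), ← ev_mul (hcp V W), mul_comm t s, hst, ev_one]
  have hHe1 : H e1 = ev e1 s := by
    rw [he1, map_commutatorElement, hHV, hHX, comm_central_left (cz hφ6), comm_central_right (cz hφ8),
      comm_ev_left (hcl V X)]
  have hHe2 : H e2 = ev e2 t := by
    rw [he2, map_commutatorElement, hHW, hHX, comm_central_left (cz hφ7), comm_central_right (cz hφ8),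
      comm_ev_left (hcl W X)]
  have hAπ : ∀ (a : MulAut (Layer p E)) (x : Layer p E), a (powHom hE hp2 x) = powHom hE hp2 (a x) :=
    fun a x => map_pow a x p
  have hAπV : A (powHom hE hp2 V) = powHom hE hp2 W * powHom hE hp2 V := by
    rw [hAπ, hAV, map_mul, hπD hφ1, one_mul, map_mul]
  have hAπW : A (powHom hE hp2 W) = 1 * powHom hE hp2 W := by
    rw [hAπ, hAW, map_mul, hπD hφ2]
  have hAπX : A (powHom hE hp2 X) = 1 * powHom hE hp2 X := by
    rw [hAπ, hAX, map_mul, hπD hφ3]
  have hHπX : H (powHom hE hp2 X) = powHom hE hp2 X := by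
    rw [hAπ, hHX, map_mul, hπD hφ8, one_mul]
  let dD : dLayer p E := ⟨d, mem_dLayer_of_comm hE _ _⟩
  let e1D : dLayer p E := ⟨e1, mem_dLayer_of_comm hE _ _⟩
  let e2D : dLayer p E := ⟨e2, mem_dLayer_of_comm hE _ _⟩
  let vD : dLayer p E := ⟨powHom hE hp2 V, mem_dLayer_of_pow hE _⟩
  let wD : dLayer p E := ⟨powHom hE hp2 W, mem_dLayer_of_pow hE _⟩
  let xD : dLayer p E := ⟨powHom hE hp2 X, mem_dLayer_of_pow hE _⟩
  have pD : ∀ x : dLayer p E, x ^ p = 1 := fun x => Subtype.ext (dLayer_pow x.2)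
  have Dd : delta α dD = 1 := delta_spec hAd
  have De1 : delta α e1D = e2D := delta_spec hAe1
  have De2 : delta α e2D = 1 := delta_spec hAe2
  have Dv : delta α vD = wD := delta_spec hAπV
  have Dw : delta α wD = 1 := delta_spec hAπW
  have Dx : delta α xD = 1 := delta_spec hAπX
  have hgenR : Subgroup.closure ({V, W, X} : Set (Layer p E)) = ⊤ := by
    rw [show ({V, W, X} : Set (Layer p E)) = q '' {v, w, u} by simp [Set.image_insert_eq, hV, hW, hX],
      ← MonoidHom.map_closure, hgen, Subgroup.map_top_of_surjective _ (QuotientGroup.mk'_surjective _)]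
  have hcomm : ∀ {T : Subgroup (Layer p E)}, d ∈ T → e1 ∈ T → e2 ∈ T →
      ∀ a ∈ ({V, W, X} : Set (Layer p E)), ∀ b ∈ ({V, W, X} : Set (Layer p E)), ⁅a, b⁆ ∈ T := by
    intro T hdT h1T h2T
    have hneg : ∀ {a b : Layer p E}, ⁅a, b⁆ ∈ T → ⁅b, a⁆ ∈ T := fun h => by
      rw [← commutatorElement_inv]; exact inv_mem h
    rintro a (rfl | rfl | rfl) b (rfl | rfl | rfl)
    exacts [by rw [commutatorElement_self]; exact one_mem _, hdT, h1T, hneg hdT,
      by rw [commutatorElement_self]; exact one_mem _, h2T, hneg h1T, hneg h2T,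
      by rw [commutatorElement_self]; exact one_mem _]
  have h3 : ∀ x : dLayer p E, delta α (delta α (delta α x)) = 1 := by
    set K := (((delta α).comp ((delta α).comp (delta α))).ker).map (dLayer p E).subtype with hK
    have hin : ∀ x : dLayer p E, delta α (delta α (delta α x)) = 1 → (x : Layer p E) ∈ K :=
      fun x hx => ⟨x, hx, rfl⟩
    have hle : dLayer p E ≤ K := dLayer_le hE hp2 hgenR
      (hcomm (hin dD (by rw [Dd, map_one, map_one])) (hin e1D (by rw [De1, De2, map_one]))
        (hin e2D (by rw [De2, map_one, map_one]))) (by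
      rintro a (rfl | rfl | rfl)
      exacts [hin vD (by rw [Dv, Dw, map_one]), hin wD (by rw [Dw, map_one, map_one]),
        hin xD (by rw [Dx, map_one, map_one])])
    intro x
    obtain ⟨y, hy, hyx⟩ := hle x.2
    rw [show x = y from Subtype.ext hyx.symm]
    exact hy
  have hπW : powHom hE hp2 W = 1 := by
    have h1 := pow_eq_of_layer h5 (a := α) (c := V) (w := φ1 * W) (by rw [← hA, hAV, mul_assoc]) (by
      rw [← hA, map_mul, hAW]
      have e : A φ1 * (φ2 * W) * (φ1 * W)⁻¹ = A φ1 * φ2 * φ1⁻¹ := by group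
      rw [e]
      exact mul_mem (mul_mem (autQuot_dLayer α hφ1) hφ2) (inv_mem hφ1)) h3
    rw [hαp, hV, autQuot_conj] at h1
    have hgc : proj (p := p) g * q v * (proj (p := p) g)⁻¹ = q v := by
      rw [(dLayer_central (p := p) ⟨g, hg, rfl⟩ (q v)).eq, mul_inv_cancel_right]
    rw [hgc, right_eq_mul, (dLayer_central hφ1 W).mul_pow, dLayer_pow hφ1, one_mul] at h1
    exact h1
  have hπV : powHom hE hp2 V = 1 := by
    have h := congrArg Bq hπW
    rwa [map_one, hAπ, hBW, map_mul, hπD hφ4, one_mul, map_mul, hπW, mul_one] at h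
  -- the fixed part
  set BB : Subgroup (Layer p E) := Subgroup.closure {d, powHom hE hp2 X} with hBB
  have hBBD : BB ≤ dLayer p E := (Subgroup.closure_le _).2 (by
    rintro x (rfl | rfl)
    exacts [mem_dLayer_of_comm hE _ _, mem_dLayer_of_pow hE _])
  haveI hBBn : BB.Normal := ⟨fun x hx y => by
    rw [← (dLayer_central (hBBD hx) y).eq, mul_inv_cancel_right]; exact hx⟩
  have hfix : ∀ x ∈ BB, H x = x := by
    have h : BB ≤ MonoidHom.eqLocus H.toMonoidHom (MonoidHom.id _) := (Subgroup.closure_le _).2 (by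
      rintro x (rfl | rfl)
      exacts [hHd, hHπX])
    exact fun x hx => h hx
  have hlowΦ := low_le (p := p) hE
  have hone : e1 = 1 ∧ e2 = 1 := by
    suffices h : e1 = 1 ∨ e2 = 1 by
      rcases h with h | h
      · have h' := hAe1
        rw [h, map_one, mul_one] at h'
        exact ⟨h, h'.symm⟩
      · have h' := hBe2
        rw [h, map_one, mul_one] at h'
        exact ⟨h'.symm, h⟩
    by_contra hcon
    push Not at hcon
    obtain ⟨h11, h21⟩ := hcon
    by_cases hb : ∀ i k : ZMod p, ev e1 i * ev e2 k ∈ BB → i = 0 ∧ k = 0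
    · -- four commuting independent elements
      set f : E →* Layer p E ⧸ BB := (QuotientGroup.mk' BB).comp q with hf
      have hfq : ∀ x, f x = QuotientGroup.mk' BB (q x) := fun x => rfl
      have hcen : ∀ x : E, x ∈ frattini E → ∀ y, Commute (f x) y := fun x hx y => by
        obtain ⟨y, rfl⟩ := QuotientGroup.mk'_surjective BB y
        exact (dLayer_central ⟨x, hx, rfl⟩ y).map (QuotientGroup.mk' BB)
      have hmem : ∀ x y, ⁅x, y⁆ ∈ frattini E := commutator_mem_frattini hE
      have hwv : Commute (f w) (f v) := by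
        refine (commutatorElement_eq_one_iff_commute.1 ?_).symm
        rw [hfq, hfq, ← map_commutatorElement]
        exact (QuotientGroup.eq_one_iff _).2 (Subgroup.subset_closure (Or.inl rfl))
      have hfp : ∀ x : E, powHom hE hp2 (q x) = 1 → f x ^ p = 1 := fun x hx => by
        rw [hfq, ← map_pow, ← hπ, hx, map_one]
      have hfc : ∀ x y : E, f ⁅x, y⁆ ^ p = 1 := fun x y => hfp _ (hπD ⟨_, hmem x y, rfl⟩)
      have hback : ∀ (K : Subgroup E) (x : E), frattini E ≤ K → f x ∈ (K.map q).map (QuotientGroup.mk' BB) →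
          x ∈ K := by
        rintro K x hK ⟨_, ⟨z, hz, rfl⟩, hze⟩
        obtain ⟨z', hz', hz'e⟩ := hBBD (QuotientGroup.eq.1 hze)
        have h1 : q (z * z') = q x := by
          rw [map_mul]
          exact (congrArg (q z * ·) hz'e).trans (mul_inv_cancel_left _ _)
        have := mul_mem (mul_mem hz (hK hz')) (hK (hlowΦ (QuotientGroup.eq.1 h1)))
        rwa [mul_inv_cancel_left] at this
      refine rank_contra hsec j hj f ![⁅v, u⁆, ⁅w, u⁆, w, v]
        ((hE.to_quotient (low p E)).to_quotient BB) ?_ ?_ ?_ ?_ ?_ ?_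
      · intro i k
        fin_cases i <;> fin_cases k
        all_goals first
          | exact hcen _ (hmem _ _) _
          | exact (hcen _ (hmem _ _) _).symm
          | exact Commute.refl _
          | exact hwv
          | exact hwv.symm
      · intro i
        fin_cases i
        exacts [hfc v u, hfc w u, hfp w hπW, hfp v hπV]
      · intro h
        refine one_ne_zero (hb 1 0 ?_).1
        rw [ev_one, ev_zero, mul_one]
        have h' : q ⁅v, u⁆ ∈ BB := (QuotientGroup.eq_one_iff _).1 h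
        rwa [map_commutatorElement] at h'
      · intro h
        rw [← Subgroup.zpowers_eq_closure] at h
        obtain ⟨i, hi⟩ := exists_ev (p := p) (hfc v u) h
        refine one_ne_zero (neg_eq_zero.1 (hb i (-1) ?_).2)
        refine (QuotientGroup.eq_one_iff _).1 (show QuotientGroup.mk' BB _ = 1 from ?_)
        have hi' : f ⁅w, u⁆ = ev (f ⁅v, u⁆) i := hi
        rw [hfq, hfq, map_commutatorElement q, map_commutatorElement q] at hi'
        rw [map_mul, map_ev, map_ev, ← hi', ← map_ev, ← map_mul, ev_neg (hcp W X), ev_one]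
        exact (congrArg _ (mul_inv_cancel e2)).trans (map_one _)
      · intro h
        refine hw (hback (frattini E) w le_rfl ((Subgroup.closure_le _).2 ?_ h))
        rintro x (rfl | rfl) <;> exact ⟨_, ⟨_, hmem _ _, rfl⟩, rfl⟩
      · intro h
        refine hv (hback (frattini E ⊔ Subgroup.zpowers w) v le_sup_left ((Subgroup.closure_le _).2 ?_ h))
        rintro x (rfl | rfl | rfl)
        exacts [⟨_, ⟨_, Subgroup.mem_sup_left (hmem _ _), rfl⟩, rfl⟩,
          ⟨_, ⟨_, Subgroup.mem_sup_left (hmem _ _), rfl⟩, rfl⟩,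
          ⟨_, ⟨_, Subgroup.mem_sup_right (Subgroup.mem_zpowers w), rfl⟩, rfl⟩]
    · push Not at hb
      obtain ⟨i, k, hik, hne⟩ := hb
      have hfx := hfix _ hik
      rw [map_mul, map_ev, map_ev, hHe1, hHe2, ← ev_mul (hcp V X), ← ev_mul (hcp W X)] at hfx
      have hrel : ev e1D ((s - 1) * i) * ev e2D ((t - 1) * k) = 1 := by
        have hfx' : ev e1D (s * i) * ev e2D (t * k) = ev e1D i * ev e2D k := Subtype.ext hfx
        rw [show (s - 1) * i = s * i + -i by ring, show (t - 1) * k = t * k + -k by ring,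
          ev_add (pD e1D), ev_add (pD e2D), mul_mul_mul_comm, hfx', ev_neg (pD e1D), ev_neg (pD e2D),
          mul_mul_mul_comm, mul_inv_cancel, mul_inv_cancel, one_mul]
      have hrelH : ev e1D (s * ((s - 1) * i)) * ev e2D (t * ((t - 1) * k)) = 1 := by
        have h := congrArg H (congrArg Subtype.val hrel :)
        refine Subtype.ext ?_
        show ev e1 _ * ev e2 _ = 1
        have hl : H (ev e1 ((s - 1) * i) * ev e2 ((t - 1) * k)) = 1 := by
          rw [show ev e1 ((s - 1) * i) * ev e2 ((t - 1) * k) = 1 from congrArg Subtype.val hrel, map_one]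
        rwa [map_mul, map_ev, map_ev, hHe1, hHe2, ← ev_mul (hcp V X), ← ev_mul (hcp W X)] at hl
      have hrels : ev e1D (s * ((s - 1) * i)) * ev e2D (s * ((t - 1) * k)) = 1 := by
        rw [mul_comm s, mul_comm s, ev_mul (pD e1D), ev_mul (pD e2D), ← mul_ev, hrel, ev_one_left]
      have hk : (t - s) * ((t - 1) * k) = 0 := by
        refine ev_eq_one (pD e2D) (fun h => h21 (congrArg Subtype.val h)) ?_
        rw [sub_mul, sub_eq_add_neg, ev_add (pD e2D), ev_neg (pD e2D), ← div_eq_mul_inv, div_eq_one]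
        exact mul_left_cancel (hrelH.trans hrels.symm)
      have hs1 : s ≠ 1 := fun h => hs2 (by rw [h, mul_one])
      have ht1 : t ≠ 1 := fun h => hs1 (by rwa [h, mul_one] at hst)
      have hts : t ≠ s := fun h => hs2 (by rwa [h] at hst)
      have hk0 : k = 0 := by
        rcases mul_eq_zero.1 hk with h | h
        · exact absurd (sub_eq_zero.1 h) hts
        · exact (mul_eq_zero.1 h).resolve_left (sub_ne_zero.2 ht1)
      rw [hk0, mul_zero, ev_zero, mul_one] at hrel
      have hi0 := (mul_eq_zero.1 (ev_eq_one (pD e1D) (fun h => h11 (congrArg Subtype.val h)) hrel)).resolve_left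
        (sub_ne_zero.2 hs1)
      exact hne hi0 hk0
  have hD : dLayer p E ≤ BB := dLayer_le hE hp2 hgenR
    (hcomm (Subgroup.subset_closure (Or.inl rfl)) (by rw [hone.1]; exact one_mem _)
      (by rw [hone.2]; exact one_mem _)) (by
    rintro a (rfl | rfl | rfl)
    · rw [← hπ, hπV]; exact one_mem _
    · rw [← hπ, hπW]; exact one_mem _
    · exact Subgroup.subset_closure (Or.inr rfl))
  have hlowq : ∀ x : E, q x = 1 → x ∈ low p E := fun x h => (QuotientGroup.eq_one_iff _).1 h
  refine ⟨hlowq _ (by rw [map_commutatorElement]; exact hone.1), hlowq _ (by rw [map_commutatorElement]; exact hone.2),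
    hlowq _ (by rw [map_pow, ← hπ]; exact hπV), hlowq _ (by rw [map_pow, ← hπ]; exact hπW), fun x hx => ?_⟩
  have hBBmap : BB ≤ (Subgroup.closure ({⁅v, w⁆, u ^ p} : Set E)).map q := (Subgroup.closure_le _).2 (by
    rintro y (rfl | rfl)
    exacts [⟨_, Subgroup.subset_closure (Or.inl rfl), map_commutatorElement _ _ _⟩,
      ⟨_, Subgroup.subset_closure (Or.inr rfl), map_pow _ _ _⟩])
  obtain ⟨y, hy, hye⟩ := hBBmap (hD ⟨x, hx, rfl⟩)
  have := mul_mem (Subgroup.mem_sup_right (S := low p E) hy)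
    (Subgroup.mem_sup_left (T := Subgroup.closure ({⁅v, w⁆, u ^ p} : Set E)) (QuotientGroup.eq.1 hye))
  rwa [mul_inv_cancel_left] at this

end Cfsg.Agent.RankThreeEss
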