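import Cfsg.Agent.Lib.RankThreeEss.LayerJ

/-!
The irreducible case on the normalizer of the essential subgroup.
-/

set_option autoImplicit false
set_option linter.unusedSectionVars false
set_option maxHeartbeats 2000000

open scoped commutatorElement

namespace Cfsg.Agent.RankThreeEss

section General

variable {G : Type*} [Group G] {p : ℕ} [hp : Fact p.Prime]

omit hp in
/-- A subgroup invariant under conjugation by a generating set is normal. -/
theorem normal_of_gen' [Finite G] {s : Set G} (hs : Subgroup.closure s = ⊤) {X : Subgroup G}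
    (h : ∀ g ∈ s, X ≤ X.comap (MulAut.conj g).toMonoidHom) : X.Normal :=
  normal_of_gen hs fun g hg x hx => h g hg hx

theorem card_sup_zpowers_le [Finite G] {Φ : Subgroup G} [Φ.Normal] {w : G} (hw : w ^ p ∈ Φ) :
    Nat.card (Φ ⊔ Subgroup.zpowers w : Subgroup G) ≤ p * Nat.card Φ := by
  set X := Φ ⊔ Subgroup.zpowers w with hX
  have hle : Φ ≤ X := le_sup_left
  have h1 : Nat.card (⊥ : Subgroup G) * (⊥ : Subgroup G).relIndex Φ = Nat.card Φ := by
    rw [Subgroup.card_bot, one_mul, Subgroup.relIndex_bot_left]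
  have h2 : Φ.relIndex X ≤ p := by
    have h3 := Subgroup.relIndex_ker (QuotientGroup.mk' Φ) (K := X)
    rw [QuotientGroup.ker_mk'] at h3
    rw [h3]
    have hle' : X.map (QuotientGroup.mk' Φ) ≤ Subgroup.zpowers (QuotientGroup.mk' Φ w) := by
      rw [hX, Subgroup.map_sup, MonoidHom.map_zpowers, (Subgroup.map_eq_bot_iff Φ).2 (QuotientGroup.ker_mk' Φ).ge,
        bot_sup_eq]
    refine (Subgroup.card_le_of_le hle').trans ?_
    rw [Nat.card_zpowers]
    exact orderOf_le_of_pow_eq_one hp.out.pos (by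
      rw [← map_pow]; exact (QuotientGroup.eq_one_iff _).2 hw)
  have h4 := Subgroup.relIndex_mul_relIndex ⊥ Φ X bot_le hle
  rw [Subgroup.relIndex_bot_left, Subgroup.relIndex_bot_left] at h4
  rw [← h4, mul_comm p]
  exact Nat.mul_le_mul_left _ h2

omit hp in
theorem comm_shift {Q : Type*} [Group Q] {Y V C k z : Q} (hk : Commute k C) (hz : ∀ g, Commute z g)
    (hf : ∀ g, Commute ⁅Y, C⁆ g) : ⁅V * Y * k, C * z⁆ = ⁅Y, C⁆ * ⁅V, C⁆ ∧ ⁅Y * k, C * z⁆ = ⁅Y, C⁆ := by
  have h1 : ∀ a : Q, ⁅a * k, C * z⁆ = ⁅a, C⁆ := fun a => by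
    rw [← (hz C).eq, comm_central_right hz, comm_mul_left (fun g => by
      rw [commutatorElement_eq_one_iff_commute.2 hk]; exact Commute.one_left g),
      commutatorElement_eq_one_iff_commute.2 hk, mul_one]
  refine ⟨?_, h1 Y⟩
  rw [h1, comm_mul_left hf, (hf ⁅V, C⁆).eq]

end General

/-- The Frattini subgroup of the normalizer in the irreducible case. -/
theorem frattiniJ {p : ℕ} [hp : Fact p.Prime] {G : Type*} [Group G] [Finite G] (hG : IsPGroup p G)
    (E : Subgroup G) [E.Normal] (y v c w : G) (hyp : y ^ p ∈ E) (htop : E ⊔ Subgroup.zpowers y = ⊤)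
    (hgenE : Subgroup.closure ({v, c, w} : Set G) = E)
    (r1 : c⁻¹ * ⁅y, v⁆ ∈ phi E) (r2 : w⁻¹ * ⁅y, c⁆ ∈ phi E) (r3 : ⁅y, w⁆ ∈ phi E)
    (hw : w ∉ phi E) (hcW : c ∉ phi E ⊔ Subgroup.zpowers w) :
    y ^ p ∈ phi E ⊔ Subgroup.zpowers w ∧ frattini G = phi E ⊔ Subgroup.zpowers w ⊔ Subgroup.zpowers c := by
  set Φ := phi E with hΦdef
  have hvE : v ∈ E := hgenE ▸ Subgroup.subset_closure (by simp)
  have hcE : c ∈ E := hgenE ▸ Subgroup.subset_closure (by simp)
  have hwE : w ∈ E := hgenE ▸ Subgroup.subset_closure (by simp)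
  have hEE : ∀ a ∈ E, ∀ b ∈ E, ⁅a, b⁆ ∈ Φ := fun a ha b hb => comm_mem_phi hG ha hb
  have hEp : ∀ a ∈ E, a ^ p ∈ Φ := fun a ha => pow_mem_phi hG ha
  set Wd := Φ ⊔ Subgroup.zpowers w with hWd
  set K := Wd ⊔ Subgroup.zpowers c with hK
  have hΦE : Φ ≤ E := phi_le E
  have hWdE : Wd ≤ E := sup_le hΦE (Subgroup.zpowers_le.2 hwE)
  have hKE : K ≤ E := sup_le hWdE (Subgroup.zpowers_le.2 hcE)
  have hΦW : Φ ≤ Wd := le_sup_left
  have hWK : Wd ≤ K := le_sup_left
  have hwW : w ∈ Wd := Subgroup.mem_sup_right (Subgroup.mem_zpowers w)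
  have hcK : c ∈ K := Subgroup.mem_sup_right (Subgroup.mem_zpowers c)
  have hgen : Subgroup.closure (insert y (E : Set G)) = ⊤ := by
    rw [eq_top_iff, ← htop]
    exact sup_le (fun x hx => Subgroup.subset_closure (Or.inr hx))
      (Subgroup.zpowers_le.2 (Subgroup.subset_closure (Or.inl rfl)))
  haveI hWn : Wd.Normal := normal_of_gen' hgen fun g hg => by
    refine sup_le (fun x hx => Subgroup.mem_sup_left (Subgroup.Normal.conj_mem inferInstance x hx g))
      (Subgroup.zpowers_le.2 ?_)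
    show g * w * g⁻¹ ∈ Wd
    rw [show g * w * g⁻¹ = ⁅g, w⁆ * w by rw [commutatorElement_def, inv_mul_cancel_right]]
    refine mul_mem (Subgroup.mem_sup_left ?_) hwW
    rcases hg with rfl | hg
    · exact r3
    · exact hEE g hg w hwE
  have hyc : ⁅y, c⁆ ∈ Wd := by
    have := mul_mem hwW (hΦW r2)
    rwa [mul_inv_cancel_left] at this
  haveI hKn : K.Normal := normal_of_gen' hgen fun g hg => by
    refine sup_le (fun x hx => hWK (hWn.conj_mem x hx g)) (Subgroup.zpowers_le.2 ?_)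
    show g * c * g⁻¹ ∈ K
    rw [show g * c * g⁻¹ = ⁅g, c⁆ * c by rw [commutatorElement_def, inv_mul_cancel_right]]
    refine mul_mem (hWK ?_) hcK
    rcases hg with rfl | hg
    · exact hyc
    · exact hΦW (hEE g hg c hcE)
  have hyv : ⁅y, v⁆ ∈ K := by
    have := mul_mem hcK (hWK (hΦW r1))
    rwa [mul_inv_cancel_left] at this
  have hgeny : Subgroup.closure ({y, v, c, w} : Set G) = ⊤ := by
    rw [eq_top_iff, ← htop, ← hgenE]
    refine sup_le (Subgroup.closure_mono (by simp)) (Subgroup.zpowers_le.2 (Subgroup.subset_closure (by simp)))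
  -- images in a quotient
  have hone : ∀ (N : Subgroup G) [N.Normal] {x : G}, x ∈ N → QuotientGroup.mk' N x = 1 :=
    fun N _ x hx => (QuotientGroup.eq_one_iff x).2 hx
  have himg : ∀ (N : Subgroup G) [N.Normal],
      Subgroup.closure ({QuotientGroup.mk' N y, QuotientGroup.mk' N v, QuotientGroup.mk' N c,
        QuotientGroup.mk' N w} : Set (G ⧸ N)) = ⊤ := fun N _ => by
    rw [show ({QuotientGroup.mk' N y, QuotientGroup.mk' N v, QuotientGroup.mk' N c,
        QuotientGroup.mk' N w} : Set (G ⧸ N)) = QuotientGroup.mk' N '' {y, v, c, w} by simp [Set.image_insert_eq],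
      ← MonoidHom.map_closure, hgeny, Subgroup.map_top_of_surjective _ (QuotientGroup.mk'_surjective N)]
  have hcent : ∀ (N : Subgroup G) [N.Normal] (x : G), ⁅y, x⁆ ∈ N → ⁅v, x⁆ ∈ N → ⁅c, x⁆ ∈ N → ⁅w, x⁆ ∈ N →
      ∀ g, Commute (QuotientGroup.mk' N x) g := by
    intro N _ x h1 h2 h3 h4 g
    have hc : ∀ a, ⁅a, x⁆ ∈ N → Commute (QuotientGroup.mk' N a) (QuotientGroup.mk' N x) := fun a ha => by
      rw [← commutatorElement_eq_one_iff_commute, ← map_commutatorElement]; exact hone N ha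
    have h : Subgroup.closure ({QuotientGroup.mk' N y, QuotientGroup.mk' N v, QuotientGroup.mk' N c,
        QuotientGroup.mk' N w} : Set (G ⧸ N)) ≤ Subgroup.centralizer {QuotientGroup.mk' N x} := by
      refine (Subgroup.closure_le _).2 ?_
      rintro a (rfl | rfl | rfl | rfl)
      all_goals refine Subgroup.mem_centralizer_iff.2 ?_
      all_goals rintro b rfl
      exacts [(hc y h1).eq.symm, (hc v h2).eq.symm, (hc c h3).eq.symm, (hc w h4).eq.symm]
    exact Subgroup.mem_centralizer_iff.1 (h ((himg N).ge (Subgroup.mem_top g))) _ rfl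
  -- `y ^ p` lies in `Wd`
  have hwp : w ^ p ∈ Φ := hEp w hwE
  have hcp : c ^ p ∈ Φ := hEp c hcE
  have hvp : v ^ p ∈ Φ := hEp v hvE
  have hWcen : ∀ g, Commute (QuotientGroup.mk' Φ w) g :=
    hcent Φ w r3 (hEE v hvE w hwE) (hEE c hcE w hwE) (hEE w hwE w hwE)
  have hCcen : ∀ g, Commute (QuotientGroup.mk' Wd c) g :=
    hcent Wd c hyc (hΦW (hEE v hvE c hcE)) (hΦW (hEE c hcE c hcE)) (hΦW (hEE w hwE c hcE))
  have hWp2 : (QuotientGroup.mk' Φ w) ^ p = 1 := by rw [← map_pow]; exact hone Φ hwp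
  have hCp3 : (QuotientGroup.mk' Wd c) ^ p = 1 := by rw [← map_pow]; exact hone Wd (hΦW hcp)
  have hC3ne : QuotientGroup.mk' Wd c ≠ 1 := fun h => hcW ((QuotientGroup.eq_one_iff c).1 h)
  have hW2ne : QuotientGroup.mk' Φ w ≠ 1 := fun h => hw ((QuotientGroup.eq_one_iff w).1 h)
  have hyv3 : ⁅QuotientGroup.mk' Wd y, QuotientGroup.mk' Wd v⁆ = QuotientGroup.mk' Wd c := by
    rw [← map_commutatorElement]
    exact (QuotientGroup.eq.2 (hΦW r1)).symm
  have hyc2 : ⁅QuotientGroup.mk' Φ y, QuotientGroup.mk' Φ c⁆ = QuotientGroup.mk' Φ w := by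
    rw [← map_commutatorElement]
    exact (QuotientGroup.eq.2 r2).symm
  have hypW : y ^ p ∈ Wd := by
    have htv : E ≤ K ⊔ Subgroup.zpowers v := by
      rw [← hgenE]
      refine (Subgroup.closure_le _).2 ?_
      rintro x (rfl | rfl | rfl)
      exacts [Subgroup.mem_sup_right (Subgroup.mem_zpowers _), Subgroup.mem_sup_left hcK,
        Subgroup.mem_sup_left (hWK hwW)]
    obtain ⟨i, hi⟩ := exists_ev_sup (hWK (hΦW hvp)) (htv hyp)
    obtain ⟨k, hk⟩ := exists_ev_sup (hΦW hcp) hi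
    have hyy : ∀ (N : Subgroup G) [N.Normal],
        ⁅QuotientGroup.mk' N y, QuotientGroup.mk' N (y ^ p)⁆ = 1 := fun N _ => by
      rw [← map_commutatorElement, commutatorElement_eq_one_iff_commute.2 (Commute.self_pow y p), map_one]
    have hi0 : i = 0 := by
      have h1 := hyy Wd
      have e : QuotientGroup.mk' Wd (y ^ p) = ev (QuotientGroup.mk' Wd v) i * ev (QuotientGroup.mk' Wd c) k := by
        rw [← map_ev, ← map_ev, ← map_mul]
        refine (QuotientGroup.eq.2 ?_).symm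
        rwa [mul_inv_rev, mul_assoc]
      have hkc : ∀ g, Commute (ev (QuotientGroup.mk' Wd c) k) g := fun g => (hCcen g).pow_left _
      rw [e, ← (hkc _).eq, comm_central_right hkc, comm_ev_right (by rw [hyv3]; exact hCcen), hyv3] at h1
      exact ev_eq_one hCp3 hC3ne h1
    rw [hi0, ev_zero, inv_one, one_mul] at hk
    have hk0 : k = 0 := by
      have h1 := hyy Φ
      obtain ⟨l, hl⟩ := exists_ev_sup hwp hk
      have e : QuotientGroup.mk' Φ (y ^ p) = ev (QuotientGroup.mk' Φ c) k * ev (QuotientGroup.mk' Φ w) l := by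
        rw [← map_ev, ← map_ev, ← map_mul]
        refine (QuotientGroup.eq.2 ?_).symm
        rwa [mul_inv_rev, mul_assoc]
      have hlc : ∀ g, Commute (ev (QuotientGroup.mk' Φ w) l) g := fun g => (hWcen g).pow_left _
      rw [e, ← (hlc _).eq, comm_central_right hlc, comm_ev_right (by rw [hyc2]; exact hWcen), hyc2] at h1
      exact ev_eq_one hWp2 hW2ne h1
    rwa [hk0, ev_zero, inv_one, one_mul] at hk
  have hKf : frattini G = K := by
    refine le_antisymm ?_ ?_
    · have hq : ∀ a ∈ ({QuotientGroup.mk' K y, QuotientGroup.mk' K v, QuotientGroup.mk' K c,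
          QuotientGroup.mk' K w} : Set (G ⧸ K)),
          ∀ b ∈ ({QuotientGroup.mk' K y, QuotientGroup.mk' K v, QuotientGroup.mk' K c,
            QuotientGroup.mk' K w} : Set (G ⧸ K)), Commute a b := by
        have h1 : ∀ g, Commute (QuotientGroup.mk' K c) g := fun g => by
          rw [hone K hcK]; exact Commute.one_left g
        have h2 : ∀ g, Commute (QuotientGroup.mk' K w) g := fun g => by
          rw [hone K (hWK hwW)]; exact Commute.one_left g
        have h3 : Commute (QuotientGroup.mk' K y) (QuotientGroup.mk' K v) := by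
          rw [← commutatorElement_eq_one_iff_commute, ← map_commutatorElement]; exact hone K hyv
        rintro a (rfl | rfl | rfl | rfl) b (rfl | rfl | rfl | rfl)
        exacts [Commute.refl _, h3, (h1 _).symm, (h2 _).symm, h3.symm, Commute.refl _, (h1 _).symm, (h2 _).symm,
          h1 _, h1 _, h1 _, h1 _, h2 _, h2 _, h2 _, h2 _]
      haveI := comm_closure hq
      refine Cfsg.Agent.LEFrattini.frattini_le (p := p) (fun a b => ?_) fun a => ?_
      · refine (QuotientGroup.eq_one_iff _).1 ?_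
        show QuotientGroup.mk' K ⁅a, b⁆ = 1
        rw [map_commutatorElement, commutatorElement_eq_one_iff_commute]
        exact congrArg Subtype.val (mul_comm'
          (⟨_, (himg K).ge (Subgroup.mem_top (QuotientGroup.mk' K a))⟩ : Subgroup.closure _)
          ⟨_, (himg K).ge (Subgroup.mem_top (QuotientGroup.mk' K b))⟩)
      · refine (QuotientGroup.eq_one_iff _).1 ?_
        show QuotientGroup.mk' K (a ^ p) = 1
        rw [map_pow]
        refine pow_eq_one_closure p hq ?_ ((himg K).ge (Subgroup.mem_top _))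
        rintro b (rfl | rfl | rfl | rfl) <;> rw [← map_pow] <;> refine hone K ?_
        exacts [hWK hypW, hWK (hΦW hvp), hWK (hΦW hcp), hWK (hΦW hwp)]
    · have hΦf : Φ ≤ frattini G := phi_le_of (p := p) (fun a _ b _ => commutator_mem_frattini hG a b)
        fun a _ => Cfsg.Agent.PGroupBasics.pow_mem_frattini hG a
      have hc' : c ∈ frattini G := by
        have := mul_mem (commutator_mem_frattini hG y v) (inv_mem (hΦf r1))
        rwa [mul_inv_rev, inv_inv, mul_inv_cancel_left] at this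
      have hw' : w ∈ frattini G := by
        have := mul_mem (commutator_mem_frattini hG y c) (inv_mem (hΦf r2))
        rwa [mul_inv_rev, inv_inv, mul_inv_cancel_left] at this
      exact sup_le (sup_le hΦf (Subgroup.zpowers_le.2 hw')) (Subgroup.zpowers_le.2 hc')
  exact ⟨hypW, hKf⟩

theorem jNorm {p : ℕ} [hp : Fact p.Prime] {G : Type*} [Group G] [Finite G] (hG : IsPGroup p G) (h5 : 5 ≤ p)
    {S0 : Type*} [Group S0] [Finite S0] (hsec : Cfsg.SectionalPRankLE p 3 S0) (j : G →* S0)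
    (hj : Function.Injective j) (E : Subgroup G) [E.Normal]
    (hirr : ∀ U : Subgroup E, frattini E ≤ U → U.Characteristic → U ≤ frattini E ∨ U = ⊤)
    (θ : MulAut G) (y v c w : G) (hyp : y ^ p ∈ E) (htop : E ⊔ Subgroup.zpowers y = ⊤)
    (hgenE : Subgroup.closure ({v, c, w} : Set G) = E)
    (r1 : c⁻¹ * ⁅y, v⁆ ∈ phi E) (r2 : w⁻¹ * ⁅y, c⁆ ∈ phi E) (r3 : ⁅y, w⁆ ∈ phi E)
    (hw : w ∉ phi E) (hwc : ∀ t : ZMod p, (ev c t)⁻¹ * w ∉ phi E)
    (hcW : c ∉ phi E ⊔ Subgroup.zpowers w)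
    (hθy : y⁻¹ * θ y ∈ phi E ⊔ Subgroup.zpowers w ⊔ Subgroup.zpowers c)
    (hθv : (v * y)⁻¹ * θ v ∈ phi E ⊔ Subgroup.zpowers w ⊔ Subgroup.zpowers c) : False := by
  set Φ := phi E with hΦdef
  have hvE : v ∈ E := hgenE ▸ Subgroup.subset_closure (by simp)
  have hcE : c ∈ E := hgenE ▸ Subgroup.subset_closure (by simp)
  have hwE : w ∈ E := hgenE ▸ Subgroup.subset_closure (by simp)
  have hEE : ∀ a ∈ E, ∀ b ∈ E, ⁅a, b⁆ ∈ Φ := fun a ha b hb => comm_mem_phi hG ha hb
  have hEp : ∀ a ∈ E, a ^ p ∈ Φ := fun a ha => pow_mem_phi hG ha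
  set Wd := Φ ⊔ Subgroup.zpowers w with hWd
  set K := Wd ⊔ Subgroup.zpowers c with hK
  have hΦE : Φ ≤ E := phi_le E
  have hWdE : Wd ≤ E := sup_le hΦE (Subgroup.zpowers_le.2 hwE)
  have hKE : K ≤ E := sup_le hWdE (Subgroup.zpowers_le.2 hcE)
  have hΦW : Φ ≤ Wd := le_sup_left
  have hWK : Wd ≤ K := le_sup_left
  have hwW : w ∈ Wd := Subgroup.mem_sup_right (Subgroup.mem_zpowers w)
  have hcK : c ∈ K := Subgroup.mem_sup_right (Subgroup.mem_zpowers c)
  have hgen : Subgroup.closure (insert y (E : Set G)) = ⊤ := by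
    rw [eq_top_iff, ← htop]
    exact sup_le (fun x hx => Subgroup.subset_closure (Or.inr hx))
      (Subgroup.zpowers_le.2 (Subgroup.subset_closure (Or.inl rfl)))
  haveI hWn : Wd.Normal := normal_of_gen' hgen fun g hg => by
    refine sup_le (fun x hx => Subgroup.mem_sup_left (Subgroup.Normal.conj_mem inferInstance x hx g))
      (Subgroup.zpowers_le.2 ?_)
    show g * w * g⁻¹ ∈ Wd
    rw [show g * w * g⁻¹ = ⁅g, w⁆ * w by rw [commutatorElement_def, inv_mul_cancel_right]]
    refine mul_mem (Subgroup.mem_sup_left ?_) hwW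
    rcases hg with rfl | hg
    · exact r3
    · exact hEE g hg w hwE
  have hyc : ⁅y, c⁆ ∈ Wd := by
    have := mul_mem hwW (hΦW r2)
    rwa [mul_inv_cancel_left] at this
  haveI hKn : K.Normal := normal_of_gen' hgen fun g hg => by
    refine sup_le (fun x hx => hWK (hWn.conj_mem x hx g)) (Subgroup.zpowers_le.2 ?_)
    show g * c * g⁻¹ ∈ K
    rw [show g * c * g⁻¹ = ⁅g, c⁆ * c by rw [commutatorElement_def, inv_mul_cancel_right]]
    refine mul_mem (hWK ?_) hcK
    rcases hg with rfl | hg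
    · exact hyc
    · exact hΦW (hEE g hg c hcE)
  have hyv : ⁅y, v⁆ ∈ K := by
    have := mul_mem hcK (hWK (hΦW r1))
    rwa [mul_inv_cancel_left] at this
  have hgeny : Subgroup.closure ({y, v, c, w} : Set G) = ⊤ := by
    rw [eq_top_iff, ← htop, ← hgenE]
    refine sup_le (Subgroup.closure_mono (by simp)) (Subgroup.zpowers_le.2 (Subgroup.subset_closure (by simp)))
  -- images in a quotient
  have hone : ∀ (N : Subgroup G) [N.Normal] {x : G}, x ∈ N → QuotientGroup.mk' N x = 1 :=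
    fun N _ x hx => (QuotientGroup.eq_one_iff x).2 hx
  have himg : ∀ (N : Subgroup G) [N.Normal],
      Subgroup.closure ({QuotientGroup.mk' N y, QuotientGroup.mk' N v, QuotientGroup.mk' N c,
        QuotientGroup.mk' N w} : Set (G ⧸ N)) = ⊤ := fun N _ => by
    rw [show ({QuotientGroup.mk' N y, QuotientGroup.mk' N v, QuotientGroup.mk' N c,
        QuotientGroup.mk' N w} : Set (G ⧸ N)) = QuotientGroup.mk' N '' {y, v, c, w} by simp [Set.image_insert_eq],
      ← MonoidHom.map_closure, hgeny, Subgroup.map_top_of_surjective _ (QuotientGroup.mk'_surjective N)]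
  have hcent : ∀ (N : Subgroup G) [N.Normal] (x : G), ⁅y, x⁆ ∈ N → ⁅v, x⁆ ∈ N → ⁅c, x⁆ ∈ N → ⁅w, x⁆ ∈ N →
      ∀ g, Commute (QuotientGroup.mk' N x) g := by
    intro N _ x h1 h2 h3 h4 g
    have hc : ∀ a, ⁅a, x⁆ ∈ N → Commute (QuotientGroup.mk' N a) (QuotientGroup.mk' N x) := fun a ha => by
      rw [← commutatorElement_eq_one_iff_commute, ← map_commutatorElement]; exact hone N ha
    have h : Subgroup.closure ({QuotientGroup.mk' N y, QuotientGroup.mk' N v, QuotientGroup.mk' N c,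
        QuotientGroup.mk' N w} : Set (G ⧸ N)) ≤ Subgroup.centralizer {QuotientGroup.mk' N x} := by
      refine (Subgroup.closure_le _).2 ?_
      rintro a (rfl | rfl | rfl | rfl)
      all_goals refine Subgroup.mem_centralizer_iff.2 ?_
      all_goals rintro b rfl
      exacts [(hc y h1).eq.symm, (hc v h2).eq.symm, (hc c h3).eq.symm, (hc w h4).eq.symm]
    exact Subgroup.mem_centralizer_iff.1 (h ((himg N).ge (Subgroup.mem_top g))) _ rfl
  have hwp : w ^ p ∈ Φ := hEp w hwE
  have hcp : c ^ p ∈ Φ := hEp c hcE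
  have hvp : v ^ p ∈ Φ := hEp v hvE
  have hWcen : ∀ g, Commute (QuotientGroup.mk' Φ w) g :=
    hcent Φ w r3 (hEE v hvE w hwE) (hEE c hcE w hwE) (hEE w hwE w hwE)
  have hCcen : ∀ g, Commute (QuotientGroup.mk' Wd c) g :=
    hcent Wd c hyc (hΦW (hEE v hvE c hcE)) (hΦW (hEE c hcE c hcE)) (hΦW (hEE w hwE c hcE))
  have hWp2 : (QuotientGroup.mk' Φ w) ^ p = 1 := by rw [← map_pow]; exact hone Φ hwp
  have hCp3 : (QuotientGroup.mk' Wd c) ^ p = 1 := by rw [← map_pow]; exact hone Wd (hΦW hcp)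
  have hC3ne : QuotientGroup.mk' Wd c ≠ 1 := fun h => hcW ((QuotientGroup.eq_one_iff c).1 h)
  have hW2ne : QuotientGroup.mk' Φ w ≠ 1 := fun h => hw ((QuotientGroup.eq_one_iff w).1 h)
  have hyv3 : ⁅QuotientGroup.mk' Wd y, QuotientGroup.mk' Wd v⁆ = QuotientGroup.mk' Wd c := by
    rw [← map_commutatorElement]
    exact (QuotientGroup.eq.2 (hΦW r1)).symm
  have hyc2 : ⁅QuotientGroup.mk' Φ y, QuotientGroup.mk' Φ c⁆ = QuotientGroup.mk' Φ w := by
    rw [← map_commutatorElement]
    exact (QuotientGroup.eq.2 r2).symm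
  obtain ⟨hypW, hKf⟩ := frattiniJ hG E y v c w hyp htop hgenE r1 r2 r3 hw hcW
  have hKchar : K.Characteristic := by
    rw [← (show frattini G = K from hKf)]
    infer_instance
  have hKcomm : ∀ a b : G, ⁅a, b⁆ ∈ K := by
    intro a b
    haveI := hKchar
    have hq : ∀ a ∈ ({QuotientGroup.mk' K y, QuotientGroup.mk' K v, QuotientGroup.mk' K c,
        QuotientGroup.mk' K w} : Set (G ⧸ K)), ∀ x, x ∈ ({QuotientGroup.mk' K y, QuotientGroup.mk' K v} :
          Set (G ⧸ K)) → Commute x a := by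
      have h3 : Commute (QuotientGroup.mk' K y) (QuotientGroup.mk' K v) := by
        rw [← commutatorElement_eq_one_iff_commute, ← map_commutatorElement]; exact hone K hyv
      rintro a (rfl | rfl | rfl | rfl) x hx
      · rcases hx with rfl | rfl
        exacts [Commute.refl _, h3.symm]
      · rcases hx with rfl | rfl
        exacts [h3, Commute.refl _]
      · rw [hone K hcK]; exact Commute.one_right x
      · rw [hone K (hWK hwW)]; exact Commute.one_right x
    refine (QuotientGroup.eq_one_iff _).1 ?_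
    show QuotientGroup.mk' K ⁅a, b⁆ = 1
    rw [map_commutatorElement, commutatorElement_eq_one_iff_commute]
    have hall : ∀ x ∈ ({QuotientGroup.mk' K y, QuotientGroup.mk' K v} : Set (G ⧸ K)), ∀ g, Commute x g := by
      intro x hx g
      have h : Subgroup.closure ({QuotientGroup.mk' K y, QuotientGroup.mk' K v, QuotientGroup.mk' K c,
          QuotientGroup.mk' K w} : Set (G ⧸ K)) ≤ Subgroup.centralizer {x} :=
        (Subgroup.closure_le _).2 fun a ha => Subgroup.mem_centralizer_iff.2 (by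
          rintro b rfl; exact (hq a ha _ hx).eq)
      exact Subgroup.mem_centralizer_iff.1 (h ((himg K).ge (Subgroup.mem_top g))) x rfl
    have htop' : Subgroup.closure ({QuotientGroup.mk' K y, QuotientGroup.mk' K v} : Set (G ⧸ K)) = ⊤ := by
      rw [eq_top_iff, ← himg K, Subgroup.closure_le]
      rintro x (rfl | rfl | rfl | rfl)
      exacts [Subgroup.subset_closure (by simp), Subgroup.subset_closure (by simp),
        by rw [hone K hcK]; exact one_mem _, by rw [hone K (hWK hwW)]; exact one_mem _]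
    have h : Subgroup.closure ({QuotientGroup.mk' K y, QuotientGroup.mk' K v} : Set (G ⧸ K)) ≤
        Subgroup.centralizer {QuotientGroup.mk' K b} :=
      (Subgroup.closure_le _).2 fun x hx => Subgroup.mem_centralizer_iff.2 (by
        rintro z rfl; exact (hall x hx _).eq.symm)
    exact (Subgroup.mem_centralizer_iff.1 (h (htop'.ge (Subgroup.mem_top (QuotientGroup.mk' K a)))) _ rfl).symm
  -- `Wd` is characteristic
  have hKimg3 : ∀ x ∈ K, ∀ g, Commute (QuotientGroup.mk' Wd x) g := by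
    intro x hx g
    obtain ⟨k, hk⟩ := exists_ev_sup (hΦW hcp) hx
    have e : QuotientGroup.mk' Wd x = ev (QuotientGroup.mk' Wd c) k := by
      rw [← map_ev]; exact (QuotientGroup.eq.2 hk).symm
    rw [e]
    exact (hCcen g).pow_left _
  have hWchar : Wd.Characteristic := by
    have hW'eq : ⁅(⊤ : Subgroup G), K⁆ ⊔ Subgroup.closure {g | ∃ x ∈ (⊤ : Subgroup G), g = x ^ p} = Wd := by
      refine le_antisymm (sup_le (Subgroup.commutator_le.2 fun g _ x hx => ?_) ((Subgroup.closure_le _).2 ?_)) ?_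
      · refine (QuotientGroup.eq_one_iff _).1 ?_
        show QuotientGroup.mk' Wd ⁅g, x⁆ = 1
        rw [map_commutatorElement, commutatorElement_eq_one_iff_commute]
        exact (hKimg3 x hx _).symm
      · rintro _ ⟨x, -, rfl⟩
        have hcl : ∀ a b g : G ⧸ Wd, Commute ⁅a, b⁆ g := by
          intro a b g
          obtain ⟨a, rfl⟩ := QuotientGroup.mk'_surjective Wd a
          obtain ⟨b, rfl⟩ := QuotientGroup.mk'_surjective Wd b
          rw [← map_commutatorElement]
          exact hKimg3 _ (hKcomm a b) g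
        have hcp' : ∀ a b : G ⧸ Wd, ⁅a, b⁆ ^ p = 1 := by
          intro a b
          obtain ⟨a, rfl⟩ := QuotientGroup.mk'_surjective Wd a
          obtain ⟨b, rfl⟩ := QuotientGroup.mk'_surjective Wd b
          obtain ⟨k, hk⟩ := exists_ev_sup (hΦW hcp) (hKcomm a b)
          rw [← map_commutatorElement, ← show QuotientGroup.mk' Wd (ev c k) = QuotientGroup.mk' Wd ⁅a, b⁆ from
            QuotientGroup.eq.2 hk, map_ev]
          exact ev_pow_p hCp3 k
        let π : G ⧸ Wd →* G ⧸ Wd :=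
          { toFun := fun z => z ^ p
            map_one' := one_pow p
            map_mul' := mul_pow_prime (by omega) hcl hcp' }
        have hker : Subgroup.closure ({QuotientGroup.mk' Wd y, QuotientGroup.mk' Wd v, QuotientGroup.mk' Wd c,
            QuotientGroup.mk' Wd w} : Set (G ⧸ Wd)) ≤ π.ker := by
          refine (Subgroup.closure_le _).2 ?_
          rintro z (rfl | rfl | rfl | rfl)
          all_goals show QuotientGroup.mk' Wd _ ^ p = 1
          all_goals rw [← map_pow]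
          exacts [hone Wd hypW, hone Wd (hΦW hvp), hone Wd (hΦW hcp), hone Wd (hΦW hwp)]
        have h := hker ((himg Wd).ge (Subgroup.mem_top (QuotientGroup.mk' Wd x)))
        refine (QuotientGroup.eq_one_iff _).1 ?_
        show QuotientGroup.mk' Wd (x ^ p) = 1
        rw [map_pow]
        exact h
      · set W' := ⁅(⊤ : Subgroup G), K⁆ ⊔ Subgroup.closure {g | ∃ x ∈ (⊤ : Subgroup G), g = x ^ p} with hW'
        haveI hW'c : W'.Characteristic := sup_characteristic (commutator_top_characteristic hKchar)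
          (powers_characteristic p inferInstance)
        have hKc : ∀ x ∈ K, ∀ g, Commute (QuotientGroup.mk' W' x) g := by
          intro x hx g
          obtain ⟨g, rfl⟩ := QuotientGroup.mk'_surjective W' g
          refine Commute.symm ?_
          rw [← commutatorElement_eq_one_iff_commute, ← map_commutatorElement]
          exact hone W' (Subgroup.mem_sup_left (Subgroup.commutator_mem_commutator (Subgroup.mem_top g) hx))
        have hΦ' : Φ ≤ W' := by
          refine phi_le_of (p := p) (fun a ha b hb => ?_) fun a _ =>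
            Subgroup.mem_sup_right (Subgroup.subset_closure ⟨a, Subgroup.mem_top a, rfl⟩)
          have hq : ∀ a ∈ ({QuotientGroup.mk' W' v, QuotientGroup.mk' W' c, QuotientGroup.mk' W' w} : Set (G ⧸ W')),
              ∀ b ∈ ({QuotientGroup.mk' W' v, QuotientGroup.mk' W' c, QuotientGroup.mk' W' w} : Set (G ⧸ W')),
              Commute a b := by
            rintro a (rfl | rfl | rfl) b (rfl | rfl | rfl)
            exacts [Commute.refl _, (hKc c hcK _).symm, (hKc w (hWK hwW) _).symm, hKc c hcK _, hKc c hcK _,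
              hKc c hcK _, hKc w (hWK hwW) _, hKc w (hWK hwW) _, hKc w (hWK hwW) _]
          haveI := comm_closure hq
          have hmemE : ∀ a ∈ E, QuotientGroup.mk' W' a ∈
              Subgroup.closure ({QuotientGroup.mk' W' v, QuotientGroup.mk' W' c, QuotientGroup.mk' W' w} :
                Set (G ⧸ W')) := by
            intro a ha
            rw [show ({QuotientGroup.mk' W' v, QuotientGroup.mk' W' c, QuotientGroup.mk' W' w} : Set (G ⧸ W')) =
              QuotientGroup.mk' W' '' {v, c, w} by simp [Set.image_insert_eq], ← MonoidHom.map_closure, hgenE]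
            exact ⟨a, ha, rfl⟩
          refine (QuotientGroup.eq_one_iff _).1 ?_
          show QuotientGroup.mk' W' ⁅a, b⁆ = 1
          rw [map_commutatorElement, commutatorElement_eq_one_iff_commute]
          exact congrArg Subtype.val (mul_comm' (⟨_, hmemE a ha⟩ : Subgroup.closure _) ⟨_, hmemE b hb⟩)
        refine sup_le hΦ' (Subgroup.zpowers_le.2 ?_)
        have := mul_mem (Subgroup.mem_sup_left
          (T := Subgroup.closure {g | ∃ x ∈ (⊤ : Subgroup G), g = x ^ p})
          (Subgroup.commutator_mem_commutator (Subgroup.mem_top y) hcK)) (inv_mem (hΦ' r2))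
        rwa [mul_inv_rev, inv_inv, mul_inv_cancel_left] at this
    rw [← hW'eq]
    exact sup_characteristic (commutator_top_characteristic hKchar) (powers_characteristic p inferInstance)
  -- the characteristic subgroup `U0`
  set U0 := ⁅(⊤ : Subgroup G), Wd⁆ ⊔ Subgroup.closure {g | ∃ x ∈ K, g = x ^ p} with hU0
  haveI hU0c : U0.Characteristic := sup_characteristic (commutator_top_characteristic hWchar)
    (powers_characteristic p hKchar)
  have hWimg2 : ∀ x ∈ Wd, ∀ g, Commute (QuotientGroup.mk' Φ x) g := by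
    intro x hx g
    obtain ⟨k, hk⟩ := exists_ev_sup hwp hx
    have e : QuotientGroup.mk' Φ x = ev (QuotientGroup.mk' Φ w) k := by
      rw [← map_ev]; exact (QuotientGroup.eq.2 hk).symm
    rw [e]
    exact (hWcen g).pow_left _
  have hU0Φ : U0 ≤ Φ := by
    refine sup_le (Subgroup.commutator_le.2 fun g _ x hx => ?_) ((Subgroup.closure_le _).2 ?_)
    · refine (QuotientGroup.eq_one_iff _).1 ?_
      show QuotientGroup.mk' Φ ⁅g, x⁆ = 1
      rw [map_commutatorElement, commutatorElement_eq_one_iff_commute]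
      exact (hWimg2 x hx _).symm
    · rintro _ ⟨x, hx, rfl⟩
      exact hEp x (hKE hx)
  set Φ1 := Φ.map θ.toMonoidHom with hΦ1
  haveI hΦ1n : Φ1.Normal := Subgroup.Normal.map inferInstance _ θ.surjective
  have hU0Φ1 : U0 ≤ Φ1 := by
    rw [← Subgroup.characteristic_iff_map_eq.1 hU0c θ]
    exact Subgroup.map_mono hU0Φ
  have hΦ1W : Φ1 ≤ Wd := by
    rw [← Subgroup.characteristic_iff_map_eq.1 hWchar θ]
    exact Subgroup.map_mono hΦW
  -- the action of `θ`
  obtain ⟨ky, hky, hθye⟩ : ∃ z ∈ K, θ y = y * z := ⟨_, hθy, (mul_inv_cancel_left y (θ y)).symm⟩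
  obtain ⟨kv, hkv, hθve⟩ : ∃ z ∈ K, θ v = v * y * z := ⟨_, hθv, (mul_inv_cancel_left (v * y) (θ v)).symm⟩
  have hθc : c⁻¹ * θ c ∈ Wd := by
    haveI := hWchar
    refine QuotientGroup.eq.1 (show QuotientGroup.mk' Wd c = QuotientGroup.mk' Wd (θ c) from ?_)
    rw [← autQuot_mk Wd θ c, ← hyv3, map_commutatorElement, autQuot_mk, autQuot_mk, hθye, hθve, map_mul,
      map_mul, map_mul, ← (hKimg3 _ hky (QuotientGroup.mk' Wd y)).eq, comm_central_left (hKimg3 _ hky),
      ← (hKimg3 _ hkv (QuotientGroup.mk' Wd v * QuotientGroup.mk' Wd y)).eq,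
      comm_central_right (hKimg3 _ hkv),
      comm_mul_right (by rw [commutatorElement_self]; exact fun g => Commute.one_left g), commutatorElement_self,
      mul_one]
  obtain ⟨kc, hkc, hθce⟩ : ∃ z ∈ Wd, θ c = c * z := ⟨_, hθc, (mul_inv_cancel_left c (θ c)).symm⟩
  set f := ⁅y, c⁆ with hfdef
  set e := ⁅v, c⁆ with hedef
  have hθe_eq : ∀ (N : Subgroup G) [N.Normal],
      (∀ x ∈ Wd, ∀ g, Commute (QuotientGroup.mk' N x) g) →
      (∀ x ∈ K, ∀ x' ∈ K, Commute (QuotientGroup.mk' N x) (QuotientGroup.mk' N x')) →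
      QuotientGroup.mk' N (θ e) = QuotientGroup.mk' N f * QuotientGroup.mk' N e ∧
        QuotientGroup.mk' N (θ f) = QuotientGroup.mk' N f := by
    intro N _ hW hKab
    have hf : ∀ g, Commute ⁅QuotientGroup.mk' N y, QuotientGroup.mk' N c⁆ g := by
      rw [← map_commutatorElement]; exact hW f hyc
    constructor
    · rw [hedef, hfdef, map_commutatorElement θ, hθve, hθce, map_commutatorElement, map_commutatorElement,
        map_commutatorElement, map_mul, map_mul, map_mul]
      exact (comm_shift (hKab _ hkv c hcK) (hW _ hkc) hf).1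
    · rw [hfdef, map_commutatorElement θ, hθye, hθce, map_commutatorElement, map_commutatorElement, map_mul,
        map_mul]
      exact (comm_shift (V := QuotientGroup.mk' N v) (hKab _ hky c hcK) (hW _ hkc) hf).2
  have heΦ : e ∈ Φ := hEE v hvE c hcE
  have hθeΦ1 : θ e ∈ Φ1 := ⟨e, heΦ, rfl⟩
  have hfΦ : f ∉ Φ := fun h => hw (by
    have := mul_mem h (inv_mem r2)
    rwa [mul_inv_rev, inv_inv, mul_inv_cancel_left] at this)
  have hθeΦ : θ e ∉ Φ := fun h => by
    have h1 := (hθe_eq Φ hWimg2 fun x hx x' hx' => by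
      rw [← commutatorElement_eq_one_iff_commute, ← map_commutatorElement]
      exact hone Φ (hEE x (hKE hx) x' (hKE hx'))).1
    rw [hone Φ h, hone Φ heΦ, mul_one] at h1
    exact hfΦ ((QuotientGroup.eq_one_iff f).1 h1.symm)
  have hWcard : Nat.card Wd ≤ p * Nat.card Φ := card_sup_zpowers_le hwp
  have hΦΦ1 : Φ ⊔ Φ1 = Wd :=
    eq_of_step hG le_sup_left (sup_le hΦW hΦ1W) (Subgroup.mem_sup_right hθeΦ1) hθeΦ
      (le_antisymm hWcard (step hG hΦW (hΦ1W hθeΦ1) hθeΦ))
  set U := Φ ⊓ Φ1 with hU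
  haveI hUn : U.Normal := Subgroup.normal_inf_normal Φ Φ1
  have hcard1 : Nat.card Φ1 = Nat.card Φ := Subgroup.card_map_of_injective θ.injective
  have hstep : Nat.card Φ ≤ p * Nat.card U := by
    have h4 := Subgroup.relIndex_mul_relIndex ⊥ U Φ1 bot_le inf_le_right
    rw [Subgroup.relIndex_bot_left, Subgroup.relIndex_bot_left, Subgroup.inf_relIndex_right] at h4
    have h6 := Subgroup.relIndex_mul_relIndex ⊥ Φ Wd bot_le hΦW
    rw [Subgroup.relIndex_bot_left, Subgroup.relIndex_bot_left] at h6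
    have h7 : Φ.relIndex Wd ≤ p := Nat.le_of_mul_le_mul_left (by rw [h6, mul_comm _ p]; exact hWcard) Nat.card_pos
    rw [← hΦΦ1, sup_comm, Subgroup.relIndex_sup_right] at h7
    rw [← hcard1, ← h4, mul_comm p]
    exact Nat.mul_le_mul_left _ h7
  have hU0U : U0 ≤ U := le_inf hU0Φ hU0Φ1
  have hGW : ∀ (g : G), ∀ x ∈ Wd, ⁅g, x⁆ ∈ U := fun g x hx =>
    hU0U (Subgroup.mem_sup_left (Subgroup.commutator_mem_commutator (Subgroup.mem_top g) hx))
  have hGΦ : ∀ (g : G), ∀ x ∈ Φ, ⁅g, x⁆ ∈ U := fun g x hx => hGW g x (hΦW hx)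
  -- computations modulo `U0`
  set π0 := QuotientGroup.mk' U0 with hπ0
  have hW0 : ∀ x ∈ Wd, ∀ g, Commute (π0 x) g := by
    intro x hx g
    obtain ⟨g, rfl⟩ := QuotientGroup.mk'_surjective U0 g
    refine Commute.symm ?_
    rw [hπ0, ← commutatorElement_eq_one_iff_commute, ← map_commutatorElement]
    exact hone U0 (Subgroup.mem_sup_left (Subgroup.commutator_mem_commutator (Subgroup.mem_top g) hx))
  have hK0 : ∀ x ∈ K, ∀ x' ∈ K, Commute (π0 x) (π0 x') := by
    intro x hx x' hx'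
    obtain ⟨k, hk⟩ := exists_ev_sup (hΦW hcp) hx
    obtain ⟨k', hk'⟩ := exists_ev_sup (hΦW hcp) hx'
    obtain ⟨z, hz, hxe⟩ : ∃ z ∈ Wd, x = ev c k * z := ⟨_, hk, (mul_inv_cancel_left _ x).symm⟩
    obtain ⟨z', hz', hxe'⟩ : ∃ z ∈ Wd, x' = ev c k' * z := ⟨_, hk', (mul_inv_cancel_left _ x').symm⟩
    rw [hxe, hxe', map_mul, map_mul, map_ev, map_ev]
    exact (((Commute.refl (π0 c)).pow_pow _ _).mul_right ((hW0 _ hz' _).symm)).mul_left
      ((hW0 _ hz _).mul_right (hW0 _ hz _))
  obtain ⟨hθe0, hθf0⟩ := hθe_eq U0 hW0 hK0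
  have hfK : f ∈ K := hWK hyc
  have hfΦ1 : f ∉ Φ1 := by
    rintro ⟨z, hz, hzf⟩
    have hzf' : θ z = f := hzf
    have h1 : f⁻¹ * θ f ∈ U0 := QuotientGroup.eq.1 hθf0.symm
    have h2 := char_mem hU0c θ⁻¹ h1
    rw [map_mul, map_inv, show θ⁻¹ (θ f) = f from θ.symm_apply_apply f, ← hzf',
      show θ⁻¹ (θ z) = z from θ.symm_apply_apply z, hzf'] at h2
    have h3 := mul_mem hz (hU0Φ h2)
    rw [mul_inv_cancel_left] at h3
    exact hfΦ h3
  have he1 : e ∉ Φ1 := fun he => hfΦ1 (by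
    have h1 : (f * e)⁻¹ * θ e ∈ U0 := QuotientGroup.eq.1 ((map_mul π0 f e).trans hθe0.symm)
    have h2 := mul_mem hθeΦ1 (inv_mem (hU0Φ1 h1))
    rw [mul_inv_rev, inv_inv, mul_inv_cancel_left] at h2
    exact (Subgroup.mul_mem_cancel_right _ he).1 h2)
  have heU : e ∉ U := fun he => he1 he.2
  have hΦe : ∀ x ∈ Φ, ∃ i : ZMod p, (ev e i)⁻¹ * x ∈ U := by
    intro x hx
    refine exists_ev_sup (hU0U (Subgroup.mem_sup_right (Subgroup.subset_closure ⟨e, hWK (hΦW heΦ), rfl⟩))) ?_
    rw [eq_of_step hG le_sup_left (sup_le inf_le_left (Subgroup.zpowers_le.2 heΦ))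
      (Subgroup.mem_sup_right (Subgroup.mem_zpowers e)) heU
      (le_antisymm hstep (step hG inf_le_left heΦ heU))]
    exact hx
  have hWf : ∀ x ∈ Wd, ∃ (k i : ZMod p) (r : G), r ∈ U ∧ x = ev f k * (ev e i * r) := by
    intro x hx
    obtain ⟨k, hk⟩ := exists_ev_sup (H := Φ) (a := f) (x := x) (hEp f (hKE hfK)) (by
      rw [eq_of_step hG le_sup_left (sup_le hΦW (Subgroup.zpowers_le.2 hyc))
        (Subgroup.mem_sup_right (Subgroup.mem_zpowers f)) hfΦ (le_antisymm hWcard (step hG hΦW hyc hfΦ))]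
      exact hx)
    obtain ⟨i, hi⟩ := hΦe _ hk
    exact ⟨k, i, _, hi, by rw [mul_inv_cancel_left, mul_inv_cancel_left]⟩
  set π1 := QuotientGroup.mk' Φ1 with hπ1
  have h01 : ∀ {a b : G}, π0 a = π0 b → π1 a = π1 b := fun h => QuotientGroup.eq.2 (hU0Φ1 (QuotientGroup.eq.1 h))
  set Fb := π1 f with hFb
  have hFne : Fb ≠ 1 := fun h => hfΦ1 ((QuotientGroup.eq_one_iff f).1 h)
  have hFp : Fb ^ p = 1 := by
    rw [hFb, ← map_pow]
    exact hone Φ1 (hU0Φ1 (Subgroup.mem_sup_right (Subgroup.subset_closure ⟨f, hfK, rfl⟩)))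
  have hEb : π1 e = Fb⁻¹ := by
    have h := h01 (hθe0.trans (map_mul π0 f e).symm)
    rw [map_mul, show π1 (θ e) = 1 from hone Φ1 hθeΦ1] at h
    exact eq_inv_of_mul_eq_one_right h.symm
  have hr1 : ∀ r ∈ U, π1 r = 1 := fun r hr => hone Φ1 hr.2
  -- the class bound modulo `U0`
  haveI : ((K.map π0)).Normal := Subgroup.Normal.map hKn _ (QuotientGroup.mk'_surjective U0)
  haveI : ((Wd.map π0)).Normal := Subgroup.Normal.map hWn _ (QuotientGroup.mk'_surjective U0)
  have hpow : ∀ a b : G ⧸ U0, (a * b) ^ p = a ^ p * b ^ p := by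
    refine mul_pow_small (hG.to_quotient U0)
      (lcs_bot_of_three (A := K.map π0) (B := Wd.map π0) h5 ?_ ?_ ?_) (C := K.map π0) ?_ ?_
    · intro a b
      obtain ⟨a, rfl⟩ := QuotientGroup.mk'_surjective U0 a
      obtain ⟨b, rfl⟩ := QuotientGroup.mk'_surjective U0 b
      exact ⟨_, hKcomm a b, map_commutatorElement _ _ _⟩
    · rintro _ ⟨x, hx, rfl⟩ g
      obtain ⟨g, rfl⟩ := QuotientGroup.mk'_surjective U0 g
      refine ⟨⁅x, g⁆, ?_, map_commutatorElement _ _ _⟩
      refine (QuotientGroup.eq_one_iff _).1 ?_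
      show QuotientGroup.mk' Wd ⁅x, g⁆ = 1
      rw [map_commutatorElement, commutatorElement_eq_one_iff_commute]
      exact hKimg3 x hx _
    · rintro _ ⟨x, hx, rfl⟩ g
      exact hW0 x hx g
    · intro a b
      obtain ⟨a, rfl⟩ := QuotientGroup.mk'_surjective U0 a
      obtain ⟨b, rfl⟩ := QuotientGroup.mk'_surjective U0 b
      exact ⟨_, hKcomm a b, map_commutatorElement _ _ _⟩
    · rintro _ ⟨x, hx, rfl⟩
      rw [hπ0, ← map_pow]
      exact hone U0 (Subgroup.mem_sup_right (Subgroup.subset_closure ⟨x, hx, rfl⟩))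
  have hkp : ∀ x ∈ K, π0 x ^ p = 1 := fun x hx => by
    rw [hπ0, ← map_pow]
    exact hone U0 (Subgroup.mem_sup_right (Subgroup.subset_closure ⟨x, hx, rfl⟩))
  have hθyp : π0 (θ (y ^ p)) = π0 (y ^ p) := by
    rw [map_pow θ, hθye, map_pow π0, map_mul π0, hpow, hkp _ hky, mul_one, map_pow π0]
  have hθvp : π0 (θ (v ^ p)) = π0 (v ^ p * y ^ p) := by
    rw [map_pow θ, hθve, map_pow π0, map_mul π0, map_mul π0, hpow, hpow, hkp _ hkv, mul_one, map_mul π0,
      map_pow π0, map_pow π0]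
  obtain ⟨b, i, r, hr, hyb⟩ := hWf _ hypW
  have hi : i = 0 := by
    have h1 := h01 hθyp
    rw [hyb, map_mul θ, map_mul θ, map_ev θ, map_ev θ, map_mul π1, map_mul π1, map_ev, map_ev,
      h01 hθf0, show π1 (θ e) = 1 from hone Φ1 hθeΦ1, ev_one_left,
      show π1 (θ r) = 1 from hone Φ1 ⟨r, hr.1, rfl⟩, map_mul π1, map_mul π1, map_ev, map_ev, hr1 r hr, hEb,
      ← hFb, mul_one, mul_one] at h1
    have h2 : ev Fb⁻¹ i = 1 := by simpa using h1.symm
    exact ev_eq_one (by rw [inv_pow, hFp, inv_one]) (inv_ne_one.2 hFne) h2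
  rw [hi, ev_zero, one_mul] at hyb
  obtain ⟨a, ha⟩ := hΦe _ hvp
  have hab : a = b := by
    have h1 := h01 hθvp
    obtain ⟨z, hz, hve⟩ : ∃ z ∈ U, v ^ p = ev e a * z := ⟨_, ha, (mul_inv_cancel_left _ (v ^ p)).symm⟩
    rw [show π1 (θ (v ^ p)) = 1 from hone Φ1 ⟨_, hvp, rfl⟩, map_mul, hyb, hve, map_mul, map_mul, map_ev, map_ev,
      hr1 _ hz, hr1 r hr, hEb, mul_one, mul_one] at h1
    rw [← sub_eq_zero, ← neg_eq_zero, neg_sub]
    refine ev_eq_one hFp hFne ?_
    rw [sub_eq_add_neg, add_comm, ev_add hFp, ev_neg hFp]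
    refine Eq.trans ?_ h1.symm
    simp only [ev, inv_pow, hFb]
  -- the layer computation
  have hsub : ∀ {x : E}, (x : G) ∈ Φ → x ∈ frattini E := fun h => mem_phi.1 h
  have hcoe : ∀ (x : E) (k : ZMod p), ((ev x k : E) : G) = ev (x : G) k := fun x k => map_ev E.subtype k
  have hgen' : Subgroup.closure ({⟨v, hvE⟩, ⟨c, hcE⟩, ⟨w, hwE⟩} : Set E) = ⊤ := by
    refine Subgroup.map_injective E.subtype_injective ?_
    rw [MonoidHom.map_closure, ← MonoidHom.range_eq_map, Subgroup.range_subtype]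
    simp [Set.image_insert_eq, hgenE]
  have hnc : ∀ (a b : G), a⁻¹ * ⁅y, b⁆ ∈ Φ → (a * b)⁻¹ * (y * b * y⁻¹) ∈ Φ := fun a b h => by
    have h1 := Subgroup.Normal.conj_mem (inferInstance : Φ.Normal) _ h b⁻¹
    rwa [show (a * b)⁻¹ * (y * b * y⁻¹) = b⁻¹ * (a⁻¹ * ⁅y, b⁆) * b⁻¹⁻¹ by
      rw [commutatorElement_def]; group]
  refine jLayer (hG.to_subgroup E) h5 hsec (j.comp E.subtype) (hj.comp E.subtype_injective)
    (MulAut.conjNormal y) ⟨v, hvE⟩ ⟨c, hcE⟩ ⟨w, hwE⟩ hgen' (hsub ?_) (hsub ?_) (hsub ?_)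
    (fun h => hw (mem_phi.2 h)) (fun t h => hwc t ?_) (fun t h => hcW ?_) hirr ⟨y ^ p, hyp⟩ b (hsub ?_) ?_
    (U.subgroupOf E) ?_ ?_ ?_ ?_ ?_
  · show (c * v)⁻¹ * (y * v * y⁻¹) ∈ Φ
    exact hnc c v r1
  · show (w * c)⁻¹ * (y * c * y⁻¹) ∈ Φ
    exact hnc w c r2
  · show w⁻¹ * (y * w * y⁻¹) ∈ Φ
    have := hnc 1 w (by rwa [inv_one, one_mul])
    rwa [one_mul] at this
  · have := mem_phi.2 h
    rwa [Subgroup.coe_mul, Subgroup.coe_inv, hcoe] at this
  · have h1 := hΦW (mem_phi.2 h)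
    rw [Subgroup.coe_mul, Subgroup.coe_inv, hcoe] at h1
    have := mul_mem (ev_mem hwW t) h1
    rwa [mul_inv_cancel_left] at this
  · rw [Subgroup.coe_mul, Subgroup.coe_inv, hcoe]
    show (ev w b)⁻¹ * y ^ p ∈ Φ
    refine QuotientGroup.eq.1 (show QuotientGroup.mk' Φ (ev w b) = QuotientGroup.mk' Φ (y ^ p) from ?_)
    rw [hyb, map_mul, hone Φ hr.1, mul_one, map_ev, map_ev]
    congr 1
    exact (QuotientGroup.eq.2 r2)
  · rw [← map_pow]
    exact MulEquiv.ext fun x => Subtype.ext (by rw [MulAut.conjNormal_apply]; rfl)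
  · refine sup_le (Subgroup.commutator_le.2 fun g _ x hx => ?_) ((Subgroup.closure_le _).2 ?_)
    · exact hGΦ (g : G) x (mem_phi.2 hx)
    · rintro _ ⟨x, hx, rfl⟩
      exact hU0U (Subgroup.mem_sup_right (Subgroup.subset_closure ⟨x, hWK (hΦW (mem_phi.2 hx)), rfl⟩))
  · exact heU
  · exact hGW v w hwW
  · exact hGW c w hwW
  · show ((ev (⁅(⟨v, hvE⟩ : E), ⟨c, hcE⟩⁆) b : E) : G)⁻¹ * v ^ p ∈ U
    rw [hcoe]
    exact hab ▸ ha

end Cfsg.Agent.RankThreeEss
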