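import Cfsg.Agent.Lib.RankThreeEss.Setup

/-!
Reading the action on the Frattini quotient of a subgroup inside its normalizer.
-/

set_option autoImplicit false
set_option linter.unusedSectionVars false

open scoped commutatorElement

namespace Cfsg.Agent.RankThreeEss

variable {S0 : Type*} [Group S0] (E₀ : Subgroup S0)

/-- The normalizer. -/
abbrev nrm : Subgroup S0 := Subgroup.normalizer (E₀ : Set S0)

/-- The subgroup read in its normalizer. -/
abbrev eIn : Subgroup (nrm E₀) := E₀.subgroupOf (nrm E₀)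

/-- The inclusion into the normalizer. -/
abbrev lift : E₀ →* nrm E₀ := Subgroup.inclusion Subgroup.le_normalizer

instance eIn_normal : (eIn E₀).Normal := Subgroup.normal_in_normalizer

/-- The identification of the two copies. -/
noncomputable abbrev eInEquiv : eIn E₀ ≃* E₀ := Subgroup.subgroupOfEquivOfLe Subgroup.le_normalizer

theorem lift_injective : Function.Injective (lift E₀) := Subgroup.inclusion_injective _

theorem lift_range : (lift E₀).range = eIn E₀ := Subgroup.inclusion_range _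

theorem lift_mem (x : E₀) : lift E₀ x ∈ eIn E₀ := x.2

/-- The conjugation action. -/
abbrev conjN : nrm E₀ →* MulAut E₀ := E₀.normalizerMonoidHom

theorem lift_conjN (g : nrm E₀) (x : E₀) : lift E₀ (conjN E₀ g x) = g * lift E₀ x * g⁻¹ := rfl

theorem phi_eIn : phi (eIn E₀) = (frattini E₀).map (lift E₀) := by
  rw [phi, ← frattini_map_equiv (eInEquiv E₀).symm, Subgroup.map_map]
  rfl

theorem mem_phi_lift {x : E₀} : lift E₀ x ∈ phi (eIn E₀) ↔ x ∈ frattini E₀ := by
  rw [phi_eIn]; exact Subgroup.mem_map_iff_mem (lift_injective E₀)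

theorem phi_sup_one (a : E₀) :
    phi (eIn E₀) ⊔ Subgroup.zpowers (lift E₀ a) = (frattini E₀ ⊔ Subgroup.zpowers a).map (lift E₀) := by
  rw [Subgroup.map_sup, MonoidHom.map_zpowers, phi_eIn]

theorem phi_sup_two (a b : E₀) :
    phi (eIn E₀) ⊔ Subgroup.zpowers (lift E₀ a) ⊔ Subgroup.zpowers (lift E₀ b) =
      (frattini E₀ ⊔ Subgroup.zpowers a ⊔ Subgroup.zpowers b).map (lift E₀) := by
  rw [Subgroup.map_sup, Subgroup.map_sup, MonoidHom.map_zpowers, MonoidHom.map_zpowers, phi_eIn]

theorem gen_lift {a b c : E₀} (h : Subgroup.closure ({a, b, c} : Set E₀) = ⊤) :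
    Subgroup.closure ({lift E₀ a, lift E₀ b, lift E₀ c} : Set (nrm E₀)) = eIn E₀ := by
  rw [← lift_range, MonoidHom.range_eq_map, ← h, MonoidHom.map_closure]
  simp [Set.image_insert_eq]

/-- A relation on the quotient as a commutator relation in the normalizer. -/
theorem rel_of {g : nrm E₀} {a b : E₀}
    (h : autQuot (frattini E₀) (conjN E₀ g) (QuotientGroup.mk' (frattini E₀) b) =
      QuotientGroup.mk' (frattini E₀) (a * b)) :
    (lift E₀ a)⁻¹ * ⁅g, lift E₀ b⁆ ∈ phi (eIn E₀) := by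
  rw [autQuot_mk] at h
  have h1 : (a * b)⁻¹ * conjN E₀ g b ∈ frattini E₀ := QuotientGroup.eq.1 h.symm
  have h2 := (mem_phi_lift E₀).2 h1
  rw [map_mul, map_inv, map_mul, lift_conjN] at h2
  have h3 := Subgroup.Normal.conj_mem (inferInstance : (phi (eIn E₀)).Normal) _ h2 (lift E₀ b)
  rwa [show lift E₀ b * ((lift E₀ a * lift E₀ b)⁻¹ * (g * lift E₀ b * g⁻¹)) * (lift E₀ b)⁻¹ =
    (lift E₀ a)⁻¹ * ⁅g, lift E₀ b⁆ by rw [commutatorElement_def]; group] at h3

theorem rel_one {g : nrm E₀} {b : E₀}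
    (h : autQuot (frattini E₀) (conjN E₀ g) (QuotientGroup.mk' (frattini E₀) b) =
      QuotientGroup.mk' (frattini E₀) b) : ⁅g, lift E₀ b⁆ ∈ phi (eIn E₀) := by
  have h1 := rel_of E₀ (a := 1) (g := g) (b := b) (by rw [one_mul]; exact h)
  rwa [map_one, inv_one, one_mul] at h1

theorem autQuot_conj_one {p : ℕ} [Fact p.Prime] {E : Type*} [Group E] [Finite E] (hE : IsPGroup p E) (z : E) :
    autQuot (frattini E) (MulAut.conj z) = 1 := by
  refine MulEquiv.ext fun r => ?_
  obtain ⟨x, rfl⟩ := QuotientGroup.mk'_surjective (frattini E) r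
  rw [autQuot_mk]
  refine (QuotientGroup.eq.2 ?_).symm
  show x⁻¹ * (z * x * z⁻¹) ∈ frattini E
  rw [show x⁻¹ * (z * x * z⁻¹) = ⁅x⁻¹, z⁆ by rw [commutatorElement_def]; group]
  exact commutator_mem_frattini hE _ _

theorem conjN_lift (z : E₀) : conjN E₀ (lift E₀ z) = MulAut.conj z := MulEquiv.ext fun _ => Subtype.ext rfl

theorem conjN_mul_lift {p : ℕ} [Fact p.Prime] [Finite E₀] (hE : IsPGroup p E₀) (g : nrm E₀) (z : E₀) :
    autQuot (frattini E₀) (conjN E₀ (g * lift E₀ z)) = autQuot (frattini E₀) (conjN E₀ g) := by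
  rw [map_mul, conjN_lift, map_mul, autQuot_conj_one hE, mul_one]

end Cfsg.Agent.RankThreeEss
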