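import Cfsg.Agent.Lib.RankThreeEss.Setup
import Cfsg.Agent.Lib.RankThreeEss.Final
import Cfsg.Agent.Lib.RankThreeEss.NormJ

/-!
The line of a two-dimensional quotient of a normalizer fixed by the second normalizer.
-/

set_option autoImplicit false
set_option linter.unusedSectionVars false
set_option maxHeartbeats 1000000

open scoped commutatorElement

namespace Cfsg.Agent.RankThreeEss

theorem exists_line {p : ℕ} [hp : Fact p.Prime] {S0 : Type*} [Group S0] [Finite S0] (hS : IsPGroup p S0)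
    {N : Subgroup S0} (hN : N ≠ ⊤) (C : Subgroup N) [C.Characteristic] (hCf : frattini N ≤ C)
    (E : Subgroup N) (hC : C ≤ E) (y v : N) (hy : y ∉ E) (hv : v ∈ E) (hE : E ≤ C ⊔ Subgroup.zpowers v)
    (htop : E ⊔ Subgroup.zpowers y = ⊤)
    (hnorm : ∀ x : Subgroup.normalizer (N : Set S0),
      (∀ g ∈ E, N.normalizerMonoidHom x g ∈ E) → (x : S0) ∈ N) :
    ∃ k : ZMod p,
      (∀ x : Subgroup.normalizer (N : Set S0),
        (y * ev v k)⁻¹ * N.normalizerMonoidHom x (y * ev v k) ∈ C) ∧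
      (∀ x : Subgroup.normalizer (N : Set S0), v⁻¹ * N.normalizerMonoidHom x v ∈ C → (x : S0) ∈ N) ∧
      ∃ x : Subgroup.normalizer (N : Set S0), (v * (y * ev v k))⁻¹ * N.normalizerMonoidHom x v ∈ C := by
  have hG : IsPGroup p N := hS.to_subgroup N
  set N₁ := Subgroup.normalizer (N : Set S0) with hN₁
  set θ : N₁ →* MulAut N := N.normalizerMonoidHom with hθ
  have hmk : ∀ g : N, QuotientGroup.mk' C g = 1 ↔ g ∈ C := fun g => QuotientGroup.eq_one_iff g
  letI : CommGroup (N ⧸ C) := { (inferInstance : Group (N ⧸ C)) with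
    mul_comm := fun a b => by
      obtain ⟨a, rfl⟩ := QuotientGroup.mk'_surjective C a
      obtain ⟨b, rfl⟩ := QuotientGroup.mk'_surjective C b
      refine commutatorElement_eq_one_iff_mul_comm.1 ?_
      rw [← map_commutatorElement, hmk]
      exact hCf (commutator_mem_frattini hG a b) }
  have hexp : ∀ r : N ⧸ C, r ^ p = 1 := fun r => by
    obtain ⟨g, rfl⟩ := QuotientGroup.mk'_surjective C r
    rw [← map_pow, hmk]
    exact hCf (Cfsg.Agent.PGroupBasics.pow_mem_frattini hG g)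
  set A := autQuot C with hA
  set Y := QuotientGroup.mk' C y with hY
  set V := QuotientGroup.mk' C v with hV
  have hA' : ∀ (x : N₁) (g : N), A (θ x) (QuotientGroup.mk' C g) = QuotientGroup.mk' C (θ x g) := fun _ _ => rfl
  have hfixV : ∀ x : N₁, A (θ x) V = V → (x : S0) ∈ N := by
    intro x hx
    refine hnorm x fun g hg => ?_
    have hle : C ⊔ Subgroup.zpowers v ≤ E.comap (θ x).toMonoidHom := by
      refine sup_le (fun a ha => hC (char_mem inferInstance _ ha)) (Subgroup.zpowers_le.2 ?_)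
      show θ x v ∈ E
      have h : v⁻¹ * θ x v ∈ C := QuotientGroup.eq.1 ((hA' x v).symm.trans hx).symm
      have := mul_mem hv (hC h)
      rwa [mul_inv_cancel_left] at this
    exact hle (hE hg)
  haveI := hS.isNilpotent
  obtain ⟨x0', hx0', hx0N⟩ := SetLike.exists_of_lt
    (Group.normalizerCondition_of_isNilpotent N (lt_top_iff_ne_top.2 hN))
  obtain ⟨n, hn⟩ := IsPGroup.iff_card.1 (hG.to_quotient C)
  have hdvd : p ∣ Nat.card (N ⧸ C) := by
    rw [hn]
    refine dvd_pow_self p fun h0 => hy (hC ?_)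
    rw [h0, pow_zero] at hn
    haveI := (Nat.card_eq_one_iff_unique.1 hn).1
    exact (hmk y).1 (Subsingleton.elim _ _)
  obtain ⟨q0, hq0, hq0fix⟩ : ∃ q : N ⧸ C, q ≠ 1 ∧ ∀ x : N₁, A (θ x) q = q := by
    letI : MulAction N₁ (N ⧸ C) := MulAction.compHom _ (A.comp θ)
    have h1 : (1 : N ⧸ C) ∈ MulAction.fixedPoints N₁ (N ⧸ C) := fun a => map_one (A (θ a))
    obtain ⟨q, hq, hne⟩ := (hS.to_subgroup N₁).exists_fixed_point_of_prime_dvd_card_of_fixed_point _ hdvd h1
    exact ⟨q, hne.symm, fun a => hq a⟩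
  obtain ⟨g, rfl⟩ := QuotientGroup.mk'_surjective C q0
  have hEn : E.Normal := ⟨fun a ha b => by
    rw [show b * a * b⁻¹ = ⁅b, a⁆ * a by rw [commutatorElement_def, inv_mul_cancel_right]]
    exact mul_mem (hC (hCf (commutator_mem_frattini hG b a))) ha⟩
  obtain ⟨i, hi⟩ := exists_ev_sup (H := E) (a := y) (hC (hCf (Cfsg.Agent.PGroupBasics.pow_mem_frattini hG y)))
    (htop.ge (Subgroup.mem_top g))
  obtain ⟨j, hj⟩ := exists_ev_sup (hCf (Cfsg.Agent.PGroupBasics.pow_mem_frattini hG v)) (hE hi)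
  have hq : QuotientGroup.mk' C g = ev Y i * ev V j := by
    rw [hY, hV, ← map_ev, ← map_ev, ← map_mul]
    refine (QuotientGroup.eq.2 ?_).symm
    rwa [mul_inv_rev, mul_assoc]
  rw [hq] at hq0 hq0fix
  have hi0 : i ≠ 0 := by
    intro h
    rw [h, ev_zero, one_mul] at hq0 hq0fix
    have hj0 : j ≠ 0 := fun hj0 => hq0 (by rw [hj0, ev_zero])
    refine hx0N (hfixV ⟨x0', hx0'⟩ ?_)
    have h2 := hq0fix ⟨x0', hx0'⟩
    rw [map_ev] at h2
    have h3 := congrArg (fun r => ev r j⁻¹) h2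
    rwa [← ev_mul (hexp _), ← ev_mul (hexp _), mul_inv_cancel₀ hj0, ev_one, ev_one] at h3
  set k : ZMod p := j * i⁻¹ with hk
  set Y' := QuotientGroup.mk' C (y * ev v k) with hY'
  have hY'e : Y' = ev (ev Y i * ev V j) i⁻¹ := by
    rw [hY', map_mul, map_ev, mul_ev, ← ev_mul (hexp _), ← ev_mul (hexp _), mul_inv_cancel₀ hi0, ev_one]
  have hY'fix : ∀ x, A (θ x) Y' = Y' := fun x => by rw [hY'e, map_ev, hq0fix x]
  have hY'ne : Y' ≠ 1 := fun h => hy (by
    have := mul_mem (hC ((hmk _).1 h)) (inv_mem (ev_mem hv k))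
    rwa [mul_inv_cancel_right] at this)
  -- the coordinates of the action
  set L := C ⊔ Subgroup.zpowers (y * ev v k) with hL
  have iC : ∀ x : N₁, ∀ a ∈ C, θ x a ∈ C := fun x a ha => char_mem inferInstance _ ha
  have hmem : ∀ x : N₁, (y * ev v k)⁻¹ * θ x (y * ev v k) ∈ C :=
    fun x => QuotientGroup.eq.1 ((hA' x _).symm.trans (hY'fix x)).symm
  have iL : ∀ x : N₁, ∀ a ∈ L, θ x a ∈ L := by
    intro x a ha
    have hle : L ≤ L.comap (θ x).toMonoidHom := sup_le (fun b hb => Subgroup.mem_sup_left (iC x b hb))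
      (Subgroup.zpowers_le.2 (by
        have := mul_mem (Subgroup.mem_sup_right (S := C) (Subgroup.mem_zpowers (y * ev v k)))
          (Subgroup.mem_sup_left (T := Subgroup.zpowers (y * ev v k)) (hmem x))
        rwa [mul_inv_cancel_left] at this))
    exact hle ha
  haveI hLn : L.Normal := ⟨fun a ha b => by
    rw [show b * a * b⁻¹ = ⁅b, a⁆ * a by rw [commutatorElement_def, inv_mul_cancel_right]]
    exact mul_mem (Subgroup.mem_sup_left (hCf (commutator_mem_frattini hG b a))) ha⟩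
  have sT : ∀ x a, θ x a * a⁻¹ ∈ L := fun x a => step_conj hS iL (fun _ _ _ => Subgroup.mem_top _) le_top (by
    have hE' : E ≤ L ⊔ Subgroup.zpowers v :=
      hE.trans (sup_le (le_sup_left.trans le_sup_left) le_sup_right)
    have htop' : L ⊔ Subgroup.zpowers v = ⊤ := by
      rw [eq_top_iff, ← htop]
      refine sup_le hE' (Subgroup.zpowers_le.2 ?_)
      have h1 : y * ev v k ∈ L ⊔ Subgroup.zpowers v :=
        Subgroup.mem_sup_left (Subgroup.mem_sup_right (Subgroup.mem_zpowers _))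
      have := mul_mem h1 (inv_mem (Subgroup.mem_sup_right (ev_mem (Subgroup.mem_zpowers v) k) :
        ev v k ∈ L ⊔ Subgroup.zpowers v))
      rwa [mul_inv_cancel_right] at this
    rw [← htop']
    exact card_sup_zpowers_le (Subgroup.mem_sup_left (hCf (Cfsg.Agent.PGroupBasics.pow_mem_frattini hG v))))
      x (Subgroup.mem_top a)
  obtain ⟨a, ha⟩ := exists_ev_sup (H := C) (a := y * ev v k)
    (hCf (Cfsg.Agent.PGroupBasics.pow_mem_frattini hG _)) (sT ⟨x0', hx0'⟩ v)
  have hx0V : A (θ ⟨x0', hx0'⟩) V = ev Y' a * V := by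
    rw [hV, hA', hY', ← map_ev,
      show θ ⟨x0', hx0'⟩ v = (θ ⟨x0', hx0'⟩ v * v⁻¹) * v by rw [inv_mul_cancel_right], map_mul]
    congr 1
    exact (QuotientGroup.eq.2 ha).symm
  have ha0 : a ≠ 0 := fun h => hx0N (hfixV ⟨x0', hx0'⟩ (by rw [hx0V, h, ev_zero, one_mul]))
  refine ⟨k, hmem, fun x hx => hfixV x ((hA' x v).trans (QuotientGroup.eq.2 hx).symm),
    ev (⟨x0', hx0'⟩ : N₁) a⁻¹, ?_⟩
  refine QuotientGroup.eq.1 (show QuotientGroup.mk' C (v * (y * ev v k)) = QuotientGroup.mk' C _ from ?_)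
  rw [← hA', map_mul, map_ev θ, map_ev A, ← hV, ← hY']
  rw [ev_apply hx0V (by rw [map_ev, hY'fix])]
  rw [← ev_mul (hexp _), mul_inv_cancel₀ ha0, ev_one, mul_comm]

end Cfsg.Agent.RankThreeEss
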