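import Cfsg.Agent.Lib.RankThreeEss.LayerT
import Cfsg.Agent.Lib.RankThreeEss.NormJ

/-!
The transvection case on the normalizer of the essential subgroup: three characteristic subgroups.
-/

set_option autoImplicit false
set_option linter.unusedSectionVars false
set_option maxHeartbeats 2000000

open scoped commutatorElement

namespace Cfsg.Agent.RankThreeEss

section General

variable {Q : Type*} [Group Q]

theorem central_of_gens {s : Set Q} (hs : Subgroup.closure s = ⊤) {x : Q} (h : ∀ a ∈ s, Commute a x) (g : Q) :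
    Commute x g := by
  have h1 : Subgroup.closure s ≤ Subgroup.centralizer {x} :=
    (Subgroup.closure_le _).2 fun a ha => Subgroup.mem_centralizer_iff.2 (by rintro b rfl; exact (h a ha).eq.symm)
  exact Subgroup.mem_centralizer_iff.1 (h1 (hs.ge (Subgroup.mem_top g))) x rfl

end General

theorem tNorm {p : ℕ} [hp : Fact p.Prime] {G : Type*} [Group G] [Finite G] (hG : IsPGroup p G) (h5 : 5 ≤ p)
    {S0 : Type*} [Group S0] [Finite S0] (hsec : Cfsg.SectionalPRankLE p 3 S0) (j : G →* S0)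
    (hj : Function.Injective j) (E : Subgroup G) [E.Normal] (y v w u : G) (hyp : y ^ p ∈ E)
    (htop : E ⊔ Subgroup.zpowers y = ⊤) (hgenE : Subgroup.closure ({v, w, u} : Set G) = E)
    (r1 : w⁻¹ * ⁅y, v⁆ ∈ phi E) (r2 : ⁅y, w⁆ ∈ phi E) (r3 : ⁅y, u⁆ ∈ phi E)
    (hw : w ∉ phi E) (hu : u ∉ phi E ⊔ Subgroup.zpowers w)
    (hv : v ∉ phi E ⊔ Subgroup.zpowers w ⊔ Subgroup.zpowers u)
    (β : MulAut E)
    (hβw : ∀ (x : E), (x : G) = w → (v * w)⁻¹ * (β x : G) ∈ phi E)
    (hβu : ∀ (x : E), (x : G) = u → u⁻¹ * (β x : G) ∈ phi E)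
    (hβv : ∀ (x : E), (x : G) = v → v⁻¹ * (β x : G) ∈ phi E)
    (ψ : MulAut G) (hψE : E.map ψ.toMonoidHom = E)
    (s t : ZMod p) (hst : s * t = 1) (hs2 : s * s ≠ 1)
    (hψy : (ev y (t * t))⁻¹ * ψ y ∈ E) (hψv : (ev v s)⁻¹ * ψ v ∈ phi E) (hψw : (ev w t)⁻¹ * ψ w ∈ phi E)
    (hψu : u⁻¹ * ψ u ∈ phi E) :
    y ^ p ∈ phi E ∧ (phi E).Characteristic ∧ frattini G = phi E ⊔ Subgroup.zpowers w ∧
      (phi E ⊔ Subgroup.zpowers w ⊔ Subgroup.zpowers u).Characteristic := by
  set Φ := phi E with hΦdef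
  have hvE : v ∈ E := hgenE ▸ Subgroup.subset_closure (by simp)
  have hwE : w ∈ E := hgenE ▸ Subgroup.subset_closure (by simp)
  have huE : u ∈ E := hgenE ▸ Subgroup.subset_closure (by simp)
  have hEE : ∀ a ∈ E, ∀ b ∈ E, ⁅a, b⁆ ∈ Φ := fun a ha b hb => comm_mem_phi hG ha hb
  have hEp : ∀ a ∈ E, a ^ p ∈ Φ := fun a ha => pow_mem_phi hG ha
  have hΦE : Φ ≤ E := phi_le E
  have hgeny : Subgroup.closure ({y, v, w, u} : Set G) = ⊤ := by
    rw [eq_top_iff, ← htop, ← hgenE]
    exact sup_le (Subgroup.closure_mono (by simp)) (Subgroup.zpowers_le.2 (Subgroup.subset_closure (by simp)))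
  have hone : ∀ (N : Subgroup G) [N.Normal] {x : G}, x ∈ N → QuotientGroup.mk' N x = 1 :=
    fun N _ x hx => (QuotientGroup.eq_one_iff x).2 hx
  have himg : ∀ (N : Subgroup G) [N.Normal],
      Subgroup.closure ({QuotientGroup.mk' N y, QuotientGroup.mk' N v, QuotientGroup.mk' N w,
        QuotientGroup.mk' N u} : Set (G ⧸ N)) = ⊤ := fun N _ => by
    rw [show ({QuotientGroup.mk' N y, QuotientGroup.mk' N v, QuotientGroup.mk' N w,
        QuotientGroup.mk' N u} : Set (G ⧸ N)) = QuotientGroup.mk' N '' {y, v, w, u} by simp [Set.image_insert_eq],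
      ← MonoidHom.map_closure, hgeny, Subgroup.map_top_of_surjective _ (QuotientGroup.mk'_surjective N)]
  have hcent : ∀ (N : Subgroup G) [N.Normal] (x : G), ⁅y, x⁆ ∈ N → ⁅v, x⁆ ∈ N → ⁅w, x⁆ ∈ N → ⁅u, x⁆ ∈ N →
      ∀ g, Commute (QuotientGroup.mk' N x) g := by
    intro N _ x h1 h2 h3 h4
    have hc : ∀ a, ⁅a, x⁆ ∈ N → Commute (QuotientGroup.mk' N a) (QuotientGroup.mk' N x) := fun a ha => by
      rw [← commutatorElement_eq_one_iff_commute, ← map_commutatorElement]; exact hone N ha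
    refine central_of_gens (himg N) ?_
    rintro a (rfl | rfl | rfl | rfl)
    exacts [hc y h1, hc v h2, hc w h3, hc u h4]
  -- the quotient by `Φ`
  set π2 := QuotientGroup.mk' Φ with hπ2
  set Y := π2 y with hY
  set V := π2 v with hV
  set W := π2 w with hW
  set X := π2 u with hX
  have hWc : ∀ g, Commute W g := hcent Φ w r2 (hEE v hvE w hwE) (hEE w hwE w hwE) (hEE u huE w hwE)
  have hXc : ∀ g, Commute X g := hcent Φ u r3 (hEE v hvE u huE) (hEE w hwE u huE) (hEE u huE u huE)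
  have hYV : ⁅Y, V⁆ = W := by
    rw [hY, hV, hW, hπ2, ← map_commutatorElement]
    exact (QuotientGroup.eq.2 r1).symm
  have hp2 : ∀ x ∈ E, π2 x ^ p = 1 := fun x hx => by rw [hπ2, ← map_pow]; exact hone Φ (hEp x hx)
  have hWp : W ^ p = 1 := hp2 w hwE
  have hXp : X ^ p = 1 := hp2 u huE
  have hind : ∀ i k : ZMod p, ev W i * ev X k = 1 → i = 0 ∧ k = 0 := by
    intro i k h
    rw [hW, hX, hπ2, ← map_ev, ← map_ev, ← map_mul] at h
    have h' : ev w i * ev u k ∈ Φ := (QuotientGroup.eq_one_iff _).1 h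
    by_cases hk : k = 0
    · rw [hk, ev_zero, mul_one] at h'
      refine ⟨by_contra fun hi => hw ?_, hk⟩
      have h1 : ev (π2 w) i = 1 := by rw [← map_ev]; exact hone Φ h'
      by_contra hwn
      exact hi (ev_eq_one hWp (fun h => hwn ((QuotientGroup.eq_one_iff w).1 h)) h1)
    · refine absurd ?_ hu
      have h1 : ev u k ∈ Φ ⊔ Subgroup.zpowers w := by
        rw [show ev u k = (ev w i)⁻¹ * (ev w i * ev u k) by rw [inv_mul_cancel_left]]
        exact mul_mem (inv_mem (Subgroup.mem_sup_right (ev_mem (Subgroup.mem_zpowers w) i)))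
          (Subgroup.mem_sup_left h')
      have hpk := (ZMod.val_coe_unit_coprime (Units.mk0 k hk) : Nat.Coprime k.val p)
      obtain ⟨n, hn⟩ := exists_pow_eq_self_of_coprime (x := X) (Nat.Coprime.coprime_dvd_right
        (orderOf_dvd_of_pow_eq_one hXp) hpk)
      have h2 := pow_mem h1 n
      rw [hX, ← map_pow, ← map_pow] at hn
      have h3 : ((ev u k) ^ n)⁻¹ * u ∈ Φ := QuotientGroup.eq.1 hn
      have := mul_mem h2 (Subgroup.mem_sup_left (T := Subgroup.zpowers w) h3)
      rwa [mul_inv_cancel_left] at this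
  haveI hN : (Subgroup.zpowers W).Normal := ⟨fun z hz g => by
    obtain ⟨n, rfl⟩ := Subgroup.mem_zpowers_iff.1 hz
    rw [← ((hWc g).zpow_left n).eq, mul_inv_cancel_right]
    exact zpow_mem (Subgroup.mem_zpowers W) n⟩
  have hcom : ∀ a b : G ⧸ Φ, ⁅a, b⁆ ∈ Subgroup.zpowers W := by
    have h0 : ∀ a ∈ ({Y, V, W, X} : Set (G ⧸ Φ)), ∀ b ∈ ({Y, V, W, X} : Set (G ⧸ Φ)),
        QuotientGroup.mk' (Subgroup.zpowers W) a * QuotientGroup.mk' (Subgroup.zpowers W) b =
        QuotientGroup.mk' (Subgroup.zpowers W) b * QuotientGroup.mk' (Subgroup.zpowers W) a := by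
      have h1 : QuotientGroup.mk' (Subgroup.zpowers W) Y * QuotientGroup.mk' (Subgroup.zpowers W) V =
          QuotientGroup.mk' (Subgroup.zpowers W) V * QuotientGroup.mk' (Subgroup.zpowers W) Y := by
        rw [← commutatorElement_eq_one_iff_mul_comm, ← map_commutatorElement, hYV]
        exact (QuotientGroup.eq_one_iff W).2 (Subgroup.mem_zpowers W)
      have hc : ∀ {a : G ⧸ Φ}, (∀ g, Commute a g) → ∀ b, QuotientGroup.mk' (Subgroup.zpowers W) a *
          QuotientGroup.mk' (Subgroup.zpowers W) b =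
        QuotientGroup.mk' (Subgroup.zpowers W) b * QuotientGroup.mk' (Subgroup.zpowers W) a := fun ha b =>
        ((ha b).map (QuotientGroup.mk' (Subgroup.zpowers W))).eq
      rintro a (rfl | rfl | rfl | rfl) b (rfl | rfl | rfl | rfl)
      exacts [rfl, h1, (hc hWc _).symm, (hc hXc _).symm, h1.symm, rfl, (hc hWc _).symm, (hc hXc _).symm,
        hc hWc _, hc hWc _, hc hWc _, hc hWc _, hc hXc _, hc hXc _, hc hXc _, hc hXc _]
    have htopq : Subgroup.closure (QuotientGroup.mk' (Subgroup.zpowers W) '' ({Y, V, W, X} : Set (G ⧸ Φ))) = ⊤ := by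
      rw [← MonoidHom.map_closure, himg Φ, Subgroup.map_top_of_surjective _ (QuotientGroup.mk'_surjective _)]
    haveI := Subgroup.isMulCommutative_closure
      (k := QuotientGroup.mk' (Subgroup.zpowers W) '' ({Y, V, W, X} : Set (G ⧸ Φ)))
      (by rintro _ ⟨a, ha, rfl⟩ _ ⟨b, hb, rfl⟩; exact h0 a ha b hb)
    intro a b
    refine (QuotientGroup.eq_one_iff _).1 ?_
    show QuotientGroup.mk' (Subgroup.zpowers W) ⁅a, b⁆ = 1
    rw [map_commutatorElement, commutatorElement_eq_one_iff_mul_comm]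
    exact congrArg Subtype.val (mul_comm'
      (⟨_, htopq.ge (Subgroup.mem_top (QuotientGroup.mk' (Subgroup.zpowers W) a))⟩ : Subgroup.closure _)
      ⟨_, htopq.ge (Subgroup.mem_top (QuotientGroup.mk' (Subgroup.zpowers W) b))⟩)
  have hcl2 : ∀ a b g : G ⧸ Φ, Commute ⁅a, b⁆ g := by
    intro a b g
    obtain ⟨n, hn⟩ := Subgroup.mem_zpowers_iff.1 (hcom a b)
    rw [← hn]
    exact (hWc g).zpow_left n
  have hcp2 : ∀ a b : G ⧸ Φ, ⁅a, b⁆ ^ p = 1 := by
    intro a b
    obtain ⟨k, hk⟩ := exists_ev hWp (hcom a b)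
    rw [hk]
    exact ev_pow_p hWp k
  -- `y ^ p` lies in `Φ`
  have hypΦ : y ^ p ∈ Φ := by
    haveI : (Φ ⊔ Subgroup.zpowers w ⊔ Subgroup.zpowers u).Normal := by
      refine normal_of_gen' hgeny fun g _ => ?_
      refine sup_le (sup_le (fun x hx => Subgroup.mem_sup_left (Subgroup.mem_sup_left
        (Subgroup.Normal.conj_mem inferInstance x hx g))) (Subgroup.zpowers_le.2 ?_)) (Subgroup.zpowers_le.2 ?_)
      · show g * w * g⁻¹ ∈ Φ ⊔ Subgroup.zpowers w ⊔ Subgroup.zpowers u
        refine Subgroup.mem_sup_left ?_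
        have h : w⁻¹ * (g * w * g⁻¹) ∈ Φ := QuotientGroup.eq.1 (show π2 w = π2 (g * w * g⁻¹) by
          rw [map_mul, map_mul, map_inv, ← hW, ← (hWc (π2 g)).eq, mul_inv_cancel_right])
        have := mul_mem (Subgroup.mem_sup_right (Subgroup.mem_zpowers w)) (Subgroup.mem_sup_left (T := Subgroup.zpowers w) h)
        rwa [mul_inv_cancel_left] at this
      · show g * u * g⁻¹ ∈ Φ ⊔ Subgroup.zpowers w ⊔ Subgroup.zpowers u
        have h : u⁻¹ * (g * u * g⁻¹) ∈ Φ := QuotientGroup.eq.1 (show π2 u = π2 (g * u * g⁻¹) by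
          rw [map_mul, map_mul, map_inv, ← hX, ← (hXc (π2 g)).eq, mul_inv_cancel_right])
        have := mul_mem (Subgroup.mem_sup_right (Subgroup.mem_zpowers u))
          (Subgroup.mem_sup_left (T := Subgroup.zpowers u) (Subgroup.mem_sup_left (T := Subgroup.zpowers w) h))
        rwa [mul_inv_cancel_left] at this
    have htv : E ≤ Φ ⊔ Subgroup.zpowers w ⊔ Subgroup.zpowers u ⊔ Subgroup.zpowers v := by
      rw [← hgenE]
      refine (Subgroup.closure_le _).2 ?_
      rintro x (rfl | rfl | rfl)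
      exacts [Subgroup.mem_sup_right (Subgroup.mem_zpowers _),
        Subgroup.mem_sup_left (Subgroup.mem_sup_left (Subgroup.mem_sup_right (Subgroup.mem_zpowers _))),
        Subgroup.mem_sup_left (Subgroup.mem_sup_right (Subgroup.mem_zpowers _))]
    obtain ⟨i, hi⟩ := exists_ev_sup
      (Subgroup.mem_sup_left (Subgroup.mem_sup_left (hEp v hvE))) (htv hyp)
    obtain ⟨z, hz, hze⟩ : ∃ z ∈ Φ ⊔ Subgroup.zpowers w ⊔ Subgroup.zpowers u, y ^ p = ev v i * z :=
      ⟨_, hi, (mul_inv_cancel_left _ _).symm⟩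
    have hzc : ∀ g, Commute (π2 z) g := by
      intro g
      have h : Φ ⊔ Subgroup.zpowers w ⊔ Subgroup.zpowers u ≤ (Subgroup.center (G ⧸ Φ)).comap π2 := by
        refine sup_le (sup_le (fun x hx => ?_) (Subgroup.zpowers_le.2 ?_)) (Subgroup.zpowers_le.2 ?_)
        · show π2 x ∈ Subgroup.center _
          rw [hπ2, hone Φ hx]; exact one_mem _
        · exact Subgroup.mem_center_iff.2 fun g => (hWc g).eq.symm
        · exact Subgroup.mem_center_iff.2 fun g => (hXc g).eq.symm
      exact (Subgroup.mem_center_iff.1 (h hz) g).symm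
    have hi0 : i = 0 := by
      have h1 : ⁅Y, π2 (y ^ p)⁆ = 1 := by
        rw [hY, ← map_commutatorElement, commutatorElement_eq_one_iff_commute.2 (Commute.self_pow y p), map_one]
      rw [hze, map_mul, map_ev, ← hV, ← (hzc (ev V i)).eq, comm_central_right hzc,
        comm_ev_right (by rw [hYV]; exact hWc), hYV] at h1
      exact ev_eq_one hWp (fun h => hw ((QuotientGroup.eq_one_iff w).1 h)) h1
    rw [hi0, ev_zero, one_mul] at hze
    rw [← hze] at hz
    haveI hn1 : (Φ ⊔ Subgroup.zpowers w).Normal := by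
      refine normal_of_gen' hgeny fun g _ => sup_le (fun x hx => Subgroup.mem_sup_left
        (Subgroup.Normal.conj_mem inferInstance x hx g)) (Subgroup.zpowers_le.2 ?_)
      show g * w * g⁻¹ ∈ Φ ⊔ Subgroup.zpowers w
      have h : w⁻¹ * (g * w * g⁻¹) ∈ Φ := QuotientGroup.eq.1 (show π2 w = π2 (g * w * g⁻¹) by
        rw [map_mul, map_mul, map_inv, ← hW, ← (hWc (π2 g)).eq, mul_inv_cancel_right])
      have := mul_mem (Subgroup.mem_sup_right (Subgroup.mem_zpowers w)) (Subgroup.mem_sup_left (T := Subgroup.zpowers w) h)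
      rwa [mul_inv_cancel_left] at this
    obtain ⟨k, hk⟩ := exists_ev_sup (Subgroup.mem_sup_left (hEp u huE)) hz
    obtain ⟨l, hl⟩ := exists_ev_sup (hEp w hwE) hk
    obtain ⟨r, hr, hre⟩ : ∃ r ∈ Φ, y ^ p = ev u k * (ev w l * r) :=
      ⟨_, hl, by rw [mul_inv_cancel_left, mul_inv_cancel_left]⟩
    have hev : ∀ {x : G} {c : ZMod p}, π2 (ev x c) = ev (π2 x) c := fun {x c} => map_ev π2 c
    have hψu2 : π2 (ψ u) = X := (QuotientGroup.eq.2 hψu).symm
    have hψw2 : π2 (ψ w) = ev W t := by rw [hW, ← hev]; exact (QuotientGroup.eq.2 hψw).symm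
    have hψΦ : ∀ x ∈ Φ, π2 (ψ x) = 1 := fun x hx => by
      refine hone Φ ?_
      have h : Φ.map ψ.toMonoidHom = Φ := by rw [hΦdef, phi_map, hψE]
      exact h.le ⟨x, hx, rfl⟩
    obtain ⟨e, he, hψye⟩ : ∃ e ∈ E, ψ y = ev y (t * t) * e := ⟨_, hψy, (mul_inv_cancel_left _ _).symm⟩
    have h2 : π2 (ψ (y ^ p)) = ev (π2 (y ^ p)) (t * t) := by
      rw [map_pow ψ, map_pow π2, hψye, map_mul, mul_pow_prime (by omega) hcl2 hcp2, hp2 e he, mul_one, hev, ev,
        ev, map_pow, ← pow_mul, ← pow_mul, mul_comm]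
    rw [hre, map_mul ψ, map_mul ψ, map_ev ψ, map_ev ψ, map_mul π2, map_mul π2, hev, hev, hψu2, hψw2,
      hψΦ r hr, mul_one, map_mul π2, map_mul π2, hev, hev, hone Φ hr, mul_one, ← hX, ← hW, ← ev_mul hWp] at h2
    have h3 : ev W (t * l - l * (t * t)) * ev X (k - k * (t * t)) = 1 := by
      have hc : Commute (ev X k) (ev W l) := ((hXc _).pow_left _)
      have h4 : ev (ev X k * ev W l) (t * t) = ev X (k * (t * t)) * ev W (l * (t * t)) := by
        rw [ev_mul hXp, ev_mul hWp]; exact hc.mul_pow _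
      rw [h4] at h2
      rw [sub_eq_add_neg, sub_eq_add_neg, ev_add hWp, ev_add hXp, ev_neg hWp, ev_neg hXp]
      have hcW : ∀ c : ZMod p, ∀ g, Commute (ev W c) g := fun c g => (hWc g).pow_left _
      have hcX : ∀ c : ZMod p, ∀ g, Commute (ev X c) g := fun c g => (hXc g).pow_left _
      calc ev W (t * l) * (ev W (l * (t * t)))⁻¹ * (ev X k * (ev X (k * (t * t)))⁻¹)
          = (ev X k * ev W (t * l)) * (ev X (k * (t * t)) * ev W (l * (t * t)))⁻¹ := by
            rw [mul_inv_rev, (hcX k (ev W (t * l))).eq, mul_assoc, mul_assoc, ← mul_assoc (ev X k),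
              ← ((hcW _ (ev X k)).inv_left).eq, mul_assoc]
        _ = 1 := by rw [h2, mul_inv_cancel]
    obtain ⟨hl0, hk0⟩ := hind _ _ h3
    have hs1 : s ≠ 1 := fun h => hs2 (by rw [h, mul_one])
    have ht1 : t ≠ 1 := fun h => hs1 (by rwa [h, mul_one] at hst)
    have ht0 : t ≠ 0 := fun h => by rw [h, mul_zero] at hst; exact zero_ne_one hst
    have htt : t * t ≠ 1 := fun h => hs2 (by linear_combination (s * t + 1) * hst - s * s * h)
    have hl1 : l = 0 := by
      have : t * (1 - t) * l = 0 := by linear_combination hl0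
      exact (mul_eq_zero.1 this).resolve_left (mul_ne_zero ht0 (sub_ne_zero.2 ht1.symm))
    have hk1 : k = 0 := by
      have : (1 - t * t) * k = 0 := by linear_combination hk0
      exact (mul_eq_zero.1 this).resolve_left (sub_ne_zero.2 htt.symm)
    rw [hre, hl1, hk1, ev_zero, ev_zero, one_mul, one_mul]
    exact hr
  -- the layer
  have hsub : ∀ {x : E}, (x : G) ∈ Φ → x ∈ frattini E := fun h => mem_phi.1 h
  have hcoe : ∀ (x : E) (k : ZMod p), ((ev x k : E) : G) = ev (x : G) k := fun x k => map_ev E.subtype k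
  let η : MulAut E := (ψ.subgroupMap E).trans (MulEquiv.subgroupCongr hψE)
  have hη : ∀ x : E, ((η x : E) : G) = ψ x := fun x => rfl
  have hnc : ∀ (a b : G), a⁻¹ * ⁅y, b⁆ ∈ Φ → (a * b)⁻¹ * (y * b * y⁻¹) ∈ Φ := fun a b h => by
    have h1 := Subgroup.Normal.conj_mem (inferInstance : Φ.Normal) _ h b⁻¹
    rwa [show (a * b)⁻¹ * (y * b * y⁻¹) = b⁻¹ * (a⁻¹ * ⁅y, b⁆) * b⁻¹⁻¹ by
      rw [commutatorElement_def]; group]
  have hgen' : Subgroup.closure ({⟨v, hvE⟩, ⟨w, hwE⟩, ⟨u, huE⟩} : Set E) = ⊤ := by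
    refine Subgroup.map_injective E.subtype_injective ?_
    rw [MonoidHom.map_closure, ← MonoidHom.range_eq_map, Subgroup.range_subtype]
    simp [Set.image_insert_eq, hgenE]
  obtain ⟨l1, l2, l3, l4, l5⟩ := tLayer (hG.to_subgroup E) h5 hsec (j.comp E.subtype)
    (hj.comp E.subtype_injective) (MulAut.conjNormal y) β η ⟨v, hvE⟩ ⟨w, hwE⟩ ⟨u, huE⟩ hgen'
    (hsub (hnc w v r1)) (hsub (by have := hnc 1 w (by rwa [inv_one, one_mul]); rwa [one_mul] at this))
    (hsub (by have := hnc 1 u (by rwa [inv_one, one_mul]); rwa [one_mul] at this))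
    (hsub (hβw _ rfl)) (hsub (hβu _ rfl)) (hsub (hβv _ rfl)) s t hst hs2
    (hsub (by rw [Subgroup.coe_mul, Subgroup.coe_inv, hcoe, hη]; exact hψv))
    (hsub (by rw [Subgroup.coe_mul, Subgroup.coe_inv, hcoe, hη]; exact hψw))
    (hsub (by rw [Subgroup.coe_mul, Subgroup.coe_inv, hη]; exact hψu))
    (fun h => hw (mem_phi.2 h))
    (fun h => hv (Subgroup.mem_sup_left (by
      have h1 : (⟨v, hvE⟩ : E).1 ∈ (frattini E ⊔ Subgroup.zpowers (⟨w, hwE⟩ : E)).map E.subtype := ⟨_, h, rfl⟩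
      rwa [Subgroup.map_sup, MonoidHom.map_zpowers] at h1)))
    ⟨y ^ p, hyp⟩ (hsub hypΦ)
    (by rw [← map_pow]; exact MulEquiv.ext fun x => Subtype.ext (by rw [MulAut.conjNormal_apply]; rfl))
  -- the Frattini subgroup of `G`
  set Wd := Φ ⊔ Subgroup.zpowers w with hWd
  have hΦW : Φ ≤ Wd := le_sup_left
  have hwW : w ∈ Wd := Subgroup.mem_sup_right (Subgroup.mem_zpowers w)
  have hWdE : Wd ≤ E := sup_le hΦE (Subgroup.zpowers_le.2 hwE)
  have hΦf : Φ ≤ frattini G := phi_le_of (p := p) (fun a _ b _ => commutator_mem_frattini hG a b)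
    fun a _ => Cfsg.Agent.PGroupBasics.pow_mem_frattini hG a
  haveI hWn : Wd.Normal := by
    refine normal_of_gen' hgeny fun g _ => sup_le (fun x hx => Subgroup.mem_sup_left
      (Subgroup.Normal.conj_mem inferInstance x hx g)) (Subgroup.zpowers_le.2 ?_)
    show g * w * g⁻¹ ∈ Wd
    have h : w⁻¹ * (g * w * g⁻¹) ∈ Φ := QuotientGroup.eq.1 (show π2 w = π2 (g * w * g⁻¹) by
      rw [map_mul, map_mul, map_inv, ← hW, ← (hWc (π2 g)).eq, mul_inv_cancel_right])
    have := mul_mem hwW (hΦW h)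
    rwa [mul_inv_cancel_left] at this
  have hWf : frattini G = Wd := by
    refine le_antisymm ?_ (sup_le hΦf (Subgroup.zpowers_le.2 ?_))
    · have hq : ∀ a ∈ ({QuotientGroup.mk' Wd y, QuotientGroup.mk' Wd v, QuotientGroup.mk' Wd w,
          QuotientGroup.mk' Wd u} : Set (G ⧸ Wd)),
          ∀ b ∈ ({QuotientGroup.mk' Wd y, QuotientGroup.mk' Wd v, QuotientGroup.mk' Wd w,
            QuotientGroup.mk' Wd u} : Set (G ⧸ Wd)), Commute a b := by
        have h1 : ∀ g, Commute (QuotientGroup.mk' Wd w) g := fun g => by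
          rw [hone Wd hwW]; exact Commute.one_left g
        have h2 : ∀ g, Commute (QuotientGroup.mk' Wd u) g :=
          hcent Wd u (hΦW r3) (hΦW (hEE v hvE u huE)) (hΦW (hEE w hwE u huE)) (hΦW (hEE u huE u huE))
        have h3 : Commute (QuotientGroup.mk' Wd y) (QuotientGroup.mk' Wd v) := by
          rw [← commutatorElement_eq_one_iff_commute, ← map_commutatorElement]
          refine hone Wd ?_
          have := mul_mem hwW (hΦW r1)
          rwa [mul_inv_cancel_left] at this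
        rintro a (rfl | rfl | rfl | rfl) b (rfl | rfl | rfl | rfl)
        exacts [Commute.refl _, h3, (h1 _).symm, (h2 _).symm, h3.symm, Commute.refl _, (h1 _).symm, (h2 _).symm,
          h1 _, h1 _, h1 _, h1 _, h2 _, h2 _, h2 _, h2 _]
      haveI := comm_closure hq
      refine Cfsg.Agent.LEFrattini.frattini_le (p := p) (fun a b => ?_) fun a => ?_
      · refine (QuotientGroup.eq_one_iff _).1 ?_
        show QuotientGroup.mk' Wd ⁅a, b⁆ = 1
        rw [map_commutatorElement, commutatorElement_eq_one_iff_commute]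
        exact congrArg Subtype.val (mul_comm'
          (⟨_, (himg Wd).ge (Subgroup.mem_top (QuotientGroup.mk' Wd a))⟩ : Subgroup.closure _)
          ⟨_, (himg Wd).ge (Subgroup.mem_top (QuotientGroup.mk' Wd b))⟩)
      · refine (QuotientGroup.eq_one_iff _).1 ?_
        show QuotientGroup.mk' Wd (a ^ p) = 1
        rw [map_pow]
        refine pow_eq_one_closure p hq ?_ ((himg Wd).ge (Subgroup.mem_top _))
        rintro b (rfl | rfl | rfl | rfl) <;> rw [← map_pow] <;> refine hone Wd (hΦW ?_)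
        exacts [hypΦ, hEp v hvE, hEp w hwE, hEp u huE]
    · have := mul_mem (commutator_mem_frattini hG y v) (inv_mem (hΦf r1))
      rwa [mul_inv_rev, inv_inv, mul_inv_cancel_left] at this
  have hWchar : Wd.Characteristic := by
    rw [← hWf]
    infer_instance
  -- the subgroup `Z0`
  set Z0 := ⁅(⊤ : Subgroup G), Wd⁆ ⊔ Subgroup.closure {g | ∃ x ∈ Wd, g = x ^ p} with hZ0
  haveI hZ0c : Z0.Characteristic := sup_characteristic (commutator_top_characteristic hWchar)
    (powers_characteristic p hWchar)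
  have hWimg2 : ∀ x ∈ Wd, ∀ g, Commute (π2 x) g := by
    intro x hx g
    obtain ⟨k, hk⟩ := exists_ev_sup (hEp w hwE) hx
    have e : π2 x = ev W k := by
      rw [hW, ← map_ev]; exact (QuotientGroup.eq.2 hk).symm
    rw [e]
    exact (hWc g).pow_left _
  have hZ0Φ : Z0 ≤ Φ := by
    refine sup_le (Subgroup.commutator_le.2 fun g _ x hx => ?_) ((Subgroup.closure_le _).2 ?_)
    · refine (QuotientGroup.eq_one_iff _).1 ?_
      show π2 ⁅g, x⁆ = 1
      rw [map_commutatorElement, commutatorElement_eq_one_iff_commute]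
      exact (hWimg2 x hx _).symm
    · rintro _ ⟨x, hx, rfl⟩
      exact hEp x (hWdE hx)
  have hGW : ∀ (g : G), ∀ x ∈ Wd, ⁅g, x⁆ ∈ Z0 := fun g x hx =>
    Subgroup.mem_sup_left (Subgroup.commutator_mem_commutator (Subgroup.mem_top g) hx)
  have hWdp : ∀ x ∈ Wd, x ^ p ∈ Z0 := fun x hx => Subgroup.mem_sup_right (Subgroup.subset_closure ⟨x, hx, rfl⟩)
  have hlowZ : ∀ x : E, x ∈ low p E → (x : G) ∈ Z0 := by
    have h : low p E ≤ Z0.subgroupOf E := by
      refine sup_le (Subgroup.commutator_le.2 fun g _ x hx => ?_) ((Subgroup.closure_le _).2 ?_)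
      · exact hGW (g : G) x (hΦW (mem_phi.2 hx))
      · rintro _ ⟨x, hx, rfl⟩
        exact hWdp x (hΦW (mem_phi.2 hx))
    exact fun x hx => h hx
  have hup : u ^ p ∈ Φ := hEp u huE
  have hΦZ : Φ ≤ Z0 ⊔ Subgroup.zpowers (u ^ p) := by
    refine Subgroup.map_le_iff_le_comap.2 (le_trans l5 (sup_le (fun x hx => ?_) ((Subgroup.closure_le _).2 ?_)))
    · exact Subgroup.mem_sup_left (hlowZ x hx)
    · rintro x (rfl | rfl)
      · exact Subgroup.mem_sup_left (hGW v w hwW)
      · exact Subgroup.mem_sup_right (Subgroup.mem_zpowers _)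
  -- the quotient by `Z0`
  set π0 := QuotientGroup.mk' Z0 with hπ0
  have hW0 : ∀ x ∈ Wd, ∀ g, Commute (π0 x) g := by
    intro x hx g
    obtain ⟨g, rfl⟩ := QuotientGroup.mk'_surjective Z0 g
    refine Commute.symm ?_
    rw [hπ0, ← commutatorElement_eq_one_iff_commute, ← map_commutatorElement]
    exact hone Z0 (hGW g x hx)
  have hvu : ⁅v, u⁆ ∈ Z0 := hlowZ _ l1
  have hwu : ⁅w, u⁆ ∈ Z0 := hlowZ _ l2
  have hyu : ⁅y, u⁆ ∈ Z0 := by
    obtain ⟨k, hk⟩ := exists_ev_sup (hWdp _ (hΦW hup)) (hΦZ r3)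
    have hyu0 : π0 ⁅y, u⁆ = ev (π0 (u ^ p)) k := by rw [← map_ev]; exact (QuotientGroup.eq.2 hk).symm
    refine (QuotientGroup.eq_one_iff _).1 (show π0 ⁅y, u⁆ = 1 from ?_)
    have hPp : π0 (u ^ p) ^ p = 1 := by rw [← map_pow]; exact hone Z0 (hWdp _ (hΦW hup))
    by_cases hP : π0 (u ^ p) = 1
    · rw [hyu0, hP, ev_one_left]
    obtain ⟨e, he, hψye⟩ : ∃ e ∈ E, ψ y = ev y (t * t) * e := ⟨_, hψy, (mul_inv_cancel_left _ _).symm⟩
    obtain ⟨z, hz, hψue⟩ : ∃ z ∈ Φ, ψ u = u * z := ⟨_, hψu, (mul_inv_cancel_left _ _).symm⟩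
    have hce : ⁅π0 e, π0 u⁆ = 1 := by
      have h : E ≤ (Subgroup.centralizer {π0 u}).comap π0 := by
        rw [← hgenE, Subgroup.closure_le]
        rintro a (rfl | rfl | rfl)
        all_goals refine Subgroup.mem_centralizer_iff.2 ?_
        all_goals rintro b rfl
        · exact (commutatorElement_eq_one_iff_mul_comm.1 (by rw [← map_commutatorElement]; exact hone Z0 hvu)).symm
        · exact (commutatorElement_eq_one_iff_mul_comm.1 (by rw [← map_commutatorElement]; exact hone Z0 hwu)).symm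
        · rfl
      exact commutatorElement_eq_one_iff_mul_comm.2 (Subgroup.mem_centralizer_iff.1 (h he) _ rfl).symm
    have hcy : ∀ g, Commute ⁅π0 y, π0 u⁆ g := by
      rw [← map_commutatorElement]; exact hW0 _ (hΦW r3)
    have h1 : autQuot Z0 ψ (π0 ⁅y, u⁆) = ev (π0 ⁅y, u⁆) (t * t) := by
      rw [hπ0, autQuot_mk, map_commutatorElement ψ, hψye, hψue, map_commutatorElement, map_mul, map_mul, ← hπ0,
        ← (hW0 z (hΦW hz) (π0 u)).eq, comm_central_right (hW0 z (hΦW hz)),
        comm_mul_left (fun g => by rw [hce]; exact Commute.one_left g), hce, mul_one, map_ev π0, comm_ev_left hcy,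
        ← map_commutatorElement]
    have h2 : autQuot Z0 ψ (π0 (u ^ p)) = π0 (u ^ p) := by
      rw [hπ0, autQuot_mk, map_pow ψ, hψue, map_pow, map_pow, map_mul, ← hπ0,
        (hW0 z (hΦW hz) (π0 u)).symm.mul_pow, ← map_pow π0 z, hone Z0 (hWdp z (hΦW hz)), mul_one]
    rw [hyu0, map_ev, h2, ← ev_mul hPp] at h1
    have h3 := ev_inj hPp hP h1
    have htt : t * t ≠ 1 := fun h => hs2 (by linear_combination (s * t + 1) * hst - s * s * h)
    have hk0 : k = 0 := by
      have : (1 - t * t) * k = 0 := by linear_combination h3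
      exact (mul_eq_zero.1 this).resolve_left (sub_ne_zero.2 htt.symm)
    rw [hyu0, hk0, ev_zero]
  set Ku := Wd ⊔ Subgroup.zpowers u with hKu
  have hKuE : Ku ≤ E := sup_le hWdE (Subgroup.zpowers_le.2 huE)
  haveI hKn : Ku.Normal := by
    refine normal_of_gen' hgeny fun g _ => sup_le (fun x hx => Subgroup.mem_sup_left
      (hWn.conj_mem x hx g)) (Subgroup.zpowers_le.2 ?_)
    show g * u * g⁻¹ ∈ Ku
    have h : u⁻¹ * (g * u * g⁻¹) ∈ Φ := QuotientGroup.eq.1 (show π2 u = π2 (g * u * g⁻¹) by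
      rw [map_mul, map_mul, map_inv, ← hX, ← (hXc (π2 g)).eq, mul_inv_cancel_right])
    have := mul_mem (Subgroup.mem_sup_right (Subgroup.mem_zpowers u)) (Subgroup.mem_sup_left (hΦW h) :
      u⁻¹ * (g * u * g⁻¹) ∈ Ku)
    rwa [mul_inv_cancel_left] at this
  have hKeq : (Subgroup.center (G ⧸ Z0)).comap π0 = Ku := by
    refine le_antisymm (fun x hx => ?_) (sup_le (fun x hx => Subgroup.mem_center_iff.2
      fun g => (hW0 x hx g).eq.symm) (Subgroup.zpowers_le.2 ?_))
    · haveI hKv : (Ku ⊔ Subgroup.zpowers v).Normal := by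
        refine normal_of_gen' hgeny fun g _ => sup_le (fun z hz => Subgroup.mem_sup_left
          (hKn.conj_mem z hz g)) (Subgroup.zpowers_le.2 ?_)
        show g * v * g⁻¹ ∈ Ku ⊔ Subgroup.zpowers v
        rw [show g * v * g⁻¹ = ⁅g, v⁆ * v by rw [commutatorElement_def, inv_mul_cancel_right]]
        refine mul_mem (Subgroup.mem_sup_left (Subgroup.mem_sup_left ?_))
          (Subgroup.mem_sup_right (Subgroup.mem_zpowers v))
        refine (QuotientGroup.eq_one_iff _).1 (show QuotientGroup.mk' Wd ⁅g, v⁆ = 1 from ?_)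
        haveI := hWchar
        rw [map_commutatorElement, commutatorElement_eq_one_iff_commute]
        refine (central_of_gens (himg Wd) ?_ _).symm
        rintro a (rfl | rfl | rfl | rfl)
        · rw [← commutatorElement_eq_one_iff_commute, ← map_commutatorElement]
          refine hone Wd ?_
          have := mul_mem hwW (hΦW r1)
          rwa [mul_inv_cancel_left] at this
        all_goals rw [← commutatorElement_eq_one_iff_commute, ← map_commutatorElement]
        all_goals refine hone Wd (hΦW (hEE _ ?_ v hvE))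
        exacts [hvE, hwE, huE]
      have hall : x ∈ Ku ⊔ Subgroup.zpowers v ⊔ Subgroup.zpowers y := by
        refine (show (⊤ : Subgroup G) ≤ _ from ?_) (Subgroup.mem_top x)
        rw [← hgeny, Subgroup.closure_le]
        rintro a (rfl | rfl | rfl | rfl)
        exacts [Subgroup.mem_sup_right (Subgroup.mem_zpowers _),
          Subgroup.mem_sup_left (Subgroup.mem_sup_right (Subgroup.mem_zpowers _)),
          Subgroup.mem_sup_left (Subgroup.mem_sup_left (Subgroup.mem_sup_left hwW)),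
          Subgroup.mem_sup_left (Subgroup.mem_sup_left (Subgroup.mem_sup_right (Subgroup.mem_zpowers _)))]
      obtain ⟨i, hi⟩ := exists_ev_sup (Subgroup.mem_sup_left (Subgroup.mem_sup_left (hΦW hypΦ))) hall
      obtain ⟨k, hk⟩ := exists_ev_sup (Subgroup.mem_sup_left (hΦW (hEp v hvE))) hi
      obtain ⟨z, hz, hxe⟩ : ∃ z ∈ Ku, x = ev y i * (ev v k * z) :=
        ⟨_, hk, by rw [mul_inv_cancel_left, mul_inv_cancel_left]⟩
      have hzc : ∀ g, Commute (π2 z) g := by
        intro g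
        have h : Ku ≤ (Subgroup.center (G ⧸ Φ)).comap π2 :=
          sup_le (fun a ha => Subgroup.mem_center_iff.2 fun g => (hWimg2 a ha g).eq.symm)
            (Subgroup.zpowers_le.2 (Subgroup.mem_center_iff.2 fun g => (hXc g).eq.symm))
        exact (Subgroup.mem_center_iff.1 (h hz) g).symm
      have hxc : ∀ g : G, ⁅π2 g, π2 x⁆ = 1 := fun g => by
        rw [← map_commutatorElement]
        refine hone Φ (hZ0Φ ?_)
        refine (QuotientGroup.eq_one_iff _).1 (show π0 ⁅g, x⁆ = 1 from ?_)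
        rw [map_commutatorElement, commutatorElement_eq_one_iff_mul_comm]
        exact Subgroup.mem_center_iff.1 hx (π0 g)
      have h1 := hxc v
      have h2 := hxc y
      rw [hxe, map_mul, map_mul, map_ev, map_ev, ← hY, ← hV, ← (hzc (ev V k)).eq, ← mul_assoc,
        ← (hzc (ev Y i)).eq, mul_assoc, comm_central_right hzc, comm_mul_right (hcl2 _ _)] at h1 h2
      rw [comm_ev_right (hcl2 V Y), comm_ev_right (hcl2 V V), commutatorElement_self, ev_one_left, mul_one,
        ← commutatorElement_inv Y V, hYV] at h1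
      rw [comm_ev_right (hcl2 Y Y), comm_ev_right (hcl2 Y V), commutatorElement_self, ev_one_left, one_mul,
        hYV] at h2
      have hW1 : W ≠ 1 := fun h => hw ((QuotientGroup.eq_one_iff w).1 h)
      rw [hxe, ev_eq_one (by rw [inv_pow, hWp, inv_one]) (inv_ne_one.2 hW1) h1, ev_eq_one hWp hW1 h2, ev_zero,
        ev_zero, one_mul, one_mul]
      exact hz
    · refine Subgroup.mem_center_iff.2 fun g => ?_
      exact ((hcent Z0 u hyu hvu hwu (by rw [commutatorElement_self]; exact one_mem _)) g).eq.symm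
  have hKchar : Ku.Characteristic := by
    rw [← hKeq]
    exact comap_characteristic inferInstance
  refine ⟨hypΦ, ?_, hWf, hKchar⟩
  have hΦeq : Z0 ⊔ Subgroup.closure {g | ∃ x ∈ Ku, g = x ^ p} = Φ := by
    refine le_antisymm (sup_le hZ0Φ ((Subgroup.closure_le _).2 ?_)) (hΦZ.trans (sup_le le_sup_left ?_))
    · rintro _ ⟨x, hx, rfl⟩
      exact hEp x (hKuE hx)
    · exact Subgroup.zpowers_le.2 (Subgroup.mem_sup_right
        (Subgroup.subset_closure ⟨u, Subgroup.mem_sup_right (Subgroup.mem_zpowers u), rfl⟩))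
  rw [← hΦeq]
  exact sup_characteristic hZ0c (powers_characteristic p hKchar)

end Cfsg.Agent.RankThreeEss
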