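import Cfsg.Agent.Lib.RankThreeEss.Setup
import Cfsg.Agent.Lib.RankThreeEss.Final
import Cfsg.Agent.Lib.RankThreeEss.NormJ

/-!
The second normalizer: extension of the torus element and the contradiction in the transvection case.
-/

set_option autoImplicit false
set_option linter.unusedSectionVars false
set_option maxHeartbeats 2000000

open scoped commutatorElement
open Cfsg Cfsg.FusionSystem Cfsg.Agent.FusionSys Cfsg.Agent.MaxEss

namespace Cfsg.Agent.RankThreeEss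

/-- The relations of the transvection case modulo `Φ`. -/
structure Frame (p : ℕ) {G : Type*} [Group G] (Φ : Subgroup G) (y v w u : G) : Prop where
  gen : Subgroup.closure ({y, v, w, u} : Set G) = ⊤
  yv : w⁻¹ * ⁅y, v⁆ ∈ Φ
  yw : ⁅y, w⁆ ∈ Φ
  yu : ⁅y, u⁆ ∈ Φ
  vw : ⁅v, w⁆ ∈ Φ
  vu : ⁅v, u⁆ ∈ Φ
  wu : ⁅w, u⁆ ∈ Φ
  py : y ^ p ∈ Φ
  pv : v ^ p ∈ Φ
  pw : w ^ p ∈ Φ
  pu : u ^ p ∈ Φ
  hw : w ∉ Φ
  hu : u ∉ Φ ⊔ Subgroup.zpowers w
  hy : y ∉ Φ ⊔ Subgroup.zpowers w ⊔ Subgroup.zpowers u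

theorem Frame.map {p : ℕ} {G : Type*} [Group G] {Φ : Subgroup G} {y v w u : G} (h : Frame p Φ y v w u)
    (hΦ : Φ.Characteristic) (τ : MulAut G) : Frame p Φ (τ y) (τ v) (τ w) (τ u) := by
  have e : Φ.map τ.toMonoidHom = Φ := Subgroup.characteristic_iff_map_eq.1 hΦ τ
  have m : ∀ {z}, z ∈ Φ → τ z ∈ Φ := fun hz => char_mem hΦ τ hz
  have hinj : Function.Injective τ.toMonoidHom := τ.injective
  refine ⟨?_, ?_, ?_, ?_, ?_, ?_, ?_, ?_, ?_, ?_, ?_, fun h' => h.hw ?_, fun h' => h.hu ?_, fun h' => h.hy ?_⟩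
  · rw [show ({τ y, τ v, τ w, τ u} : Set G) = τ.toMonoidHom '' {y, v, w, u} by simp [Set.image_insert_eq],
      ← MonoidHom.map_closure, h.gen, Subgroup.map_top_of_surjective _ τ.surjective]
  · rw [← map_inv, ← map_commutatorElement, ← map_mul]; exact m h.yv
  · rw [← map_commutatorElement]; exact m h.yw
  · rw [← map_commutatorElement]; exact m h.yu
  · rw [← map_commutatorElement]; exact m h.vw
  · rw [← map_commutatorElement]; exact m h.vu
  · rw [← map_commutatorElement]; exact m h.wu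
  · rw [← map_pow]; exact m h.py
  · rw [← map_pow]; exact m h.pv
  · rw [← map_pow]; exact m h.pw
  · rw [← map_pow]; exact m h.pu
  · rw [← e] at h'
    exact (Subgroup.mem_map_iff_mem hinj).1 h'
  · rw [← e, show τ w = τ.toMonoidHom w from rfl, ← MonoidHom.map_zpowers, ← Subgroup.map_sup] at h'
    exact (Subgroup.mem_map_iff_mem hinj).1 h'
  · rw [← e, show τ w = τ.toMonoidHom w from rfl, show τ u = τ.toMonoidHom u from rfl, ← MonoidHom.map_zpowers,
      ← MonoidHom.map_zpowers, ← Subgroup.map_sup, ← Subgroup.map_sup] at h'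
    exact (Subgroup.mem_map_iff_mem hinj).1 h'

variable {Ω : Type*} [Group Ω] {S : Subgroup Ω} [Finite S] {F : FusionSystem S} {p : ℕ} [hp : Fact p.Prime]

theorem stage2 (hS : IsPGroup p S) (hF : F.IsSaturated p) (h5 : 5 ≤ p) (hsec : Cfsg.SectionalPRankLE p 3 S)
    {N : Subgroup S} (hNF : F.IsFullyNormalized (om N)) (hN : N ≠ ⊤) {Φ : Subgroup N} (hΦ : Φ.Characteristic)
    (hΦf : Φ ≤ frattini N) (y v w u : N) (hfr : Frame p Φ y v w u)
    (hW : (Φ ⊔ Subgroup.zpowers w).Characteristic)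
    (hK : (Φ ⊔ Subgroup.zpowers w ⊔ Subgroup.zpowers u).Characteristic)
    {ψ : MulAut N} (hψ : ψ ∈ autL F N) (s t : ZMod p) (hst : s * t = 1) (hs2 : s * s ≠ 1)
    (hs3 : s * s * s ≠ 1) (hs5 : s * s * s * s * s ≠ 1)
    (hψy : (ev y (t * t))⁻¹ * ψ y ∈ Φ ⊔ Subgroup.zpowers w ⊔ Subgroup.zpowers u)
    (hψv : (ev v s)⁻¹ * ψ v ∈ Φ ⊔ Subgroup.zpowers w ⊔ Subgroup.zpowers u)
    (hψw : (ev w t)⁻¹ * ψ w ∈ Φ) (hψu : u⁻¹ * ψ u ∈ Φ)
    (hfix : ∀ x : Subgroup.normalizer (N : Set S),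
      y⁻¹ * N.normalizerMonoidHom x y ∈ Φ ⊔ Subgroup.zpowers w ⊔ Subgroup.zpowers u)
    (hmove : ∀ x : Subgroup.normalizer (N : Set S),
      v⁻¹ * N.normalizerMonoidHom x v ∈ Φ ⊔ Subgroup.zpowers w ⊔ Subgroup.zpowers u → (x : S) ∈ N) : False := by
  have hG : IsPGroup p N := hS.to_subgroup N
  set Wd := Φ ⊔ Subgroup.zpowers w with hWd
  set Ku := Wd ⊔ Subgroup.zpowers u with hKu
  haveI := hΦ
  haveI := hW
  haveI := hK
  have hΦW : Φ ≤ Wd := le_sup_left
  have hWK : Wd ≤ Ku := le_sup_left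
  have hwW : w ∈ Wd := Subgroup.mem_sup_right (Subgroup.mem_zpowers w)
  have huK : u ∈ Ku := Subgroup.mem_sup_right (Subgroup.mem_zpowers u)
  have hyvW : ⁅y, v⁆ ∈ Wd := by
    have := mul_mem hwW (hΦW hfr.yv)
    rwa [mul_inv_cancel_left] at this
  have hWf : Wd ≤ frattini N := by
    refine sup_le hΦf (Subgroup.zpowers_le.2 ?_)
    have := mul_mem (commutator_mem_frattini hG y v) (inv_mem (hΦf hfr.yv))
    rwa [mul_inv_rev, inv_inv, mul_inv_cancel_left] at this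
  -- the quotient by `Wd`
  have hone : ∀ (C : Subgroup N) [C.Normal] {x : N}, x ∈ C → QuotientGroup.mk' C x = 1 :=
    fun C _ x hx => (QuotientGroup.eq_one_iff x).2 hx
  have himg : Subgroup.closure (QuotientGroup.mk' Wd '' ({y, v, w, u} : Set N)) = ⊤ := by
    rw [← MonoidHom.map_closure, hfr.gen, Subgroup.map_top_of_surjective _ (QuotientGroup.mk'_surjective Wd)]
  have hq : ∀ a ∈ QuotientGroup.mk' Wd '' ({y, v, w, u} : Set N),
      ∀ b ∈ QuotientGroup.mk' Wd '' ({y, v, w, u} : Set N), Commute a b := by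
    have hc : ∀ {a b : N}, ⁅a, b⁆ ∈ Wd → Commute (QuotientGroup.mk' Wd a) (QuotientGroup.mk' Wd b) := fun h => by
      rw [← commutatorElement_eq_one_iff_commute, ← map_commutatorElement]; exact hone Wd h
    rintro _ ⟨a, (rfl | rfl | rfl | rfl), rfl⟩ _ ⟨b, (rfl | rfl | rfl | rfl), rfl⟩
    exacts [Commute.refl _, hc hyvW, hc (hΦW hfr.yw), hc (hΦW hfr.yu), (hc hyvW).symm, Commute.refl _,
      hc (hΦW hfr.vw), hc (hΦW hfr.vu), (hc (hΦW hfr.yw)).symm, (hc (hΦW hfr.vw)).symm, Commute.refl _,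
      hc (hΦW hfr.wu), (hc (hΦW hfr.yu)).symm, (hc (hΦW hfr.vu)).symm, (hc (hΦW hfr.wu)).symm, Commute.refl _]
  have hcW : ∀ a b : N, ⁅a, b⁆ ∈ Wd := by
    haveI := comm_closure hq
    intro a b
    refine (QuotientGroup.eq_one_iff _).1 ?_
    show QuotientGroup.mk' Wd ⁅a, b⁆ = 1
    rw [map_commutatorElement, commutatorElement_eq_one_iff_commute]
    exact congrArg Subtype.val (mul_comm'
      (⟨_, himg.ge (Subgroup.mem_top (QuotientGroup.mk' Wd a))⟩ : Subgroup.closure _)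
      ⟨_, himg.ge (Subgroup.mem_top (QuotientGroup.mk' Wd b))⟩)
  letI : CommGroup (N ⧸ Wd) := { (inferInstance : Group (N ⧸ Wd)) with
    mul_comm := fun a b => by
      obtain ⟨a, rfl⟩ := QuotientGroup.mk'_surjective Wd a
      obtain ⟨b, rfl⟩ := QuotientGroup.mk'_surjective Wd b
      refine commutatorElement_eq_one_iff_mul_comm.1 ?_
      rw [← map_commutatorElement]
      exact hone Wd (hcW a b) }
  have hexp : ∀ r : N ⧸ Wd, r ^ p = 1 := fun r => by
    refine pow_eq_one_closure p hq ?_ (himg.ge (Subgroup.mem_top r))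
    rintro _ ⟨a, (rfl | rfl | rfl | rfl), rfl⟩ <;> rw [← map_pow] <;> refine hone Wd (hΦW ?_)
    exacts [hfr.py, hfr.pv, hfr.pw, hfr.pu]
  -- `L`
  set L := Ku ⊔ Subgroup.zpowers y with hL
  haveI hLn : L.Normal := ⟨fun g hg a => by
    rw [show a * g * a⁻¹ = ⁅a, g⁆ * g by rw [commutatorElement_def, inv_mul_cancel_right]]
    exact mul_mem (Subgroup.mem_sup_left (hWK (hcW a g))) hg⟩
  have hyL : y ∈ L := Subgroup.mem_sup_right (Subgroup.mem_zpowers y)
  have hKL : Ku ≤ L := le_sup_left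
  set N₁ := Subgroup.normalizer (N : Set S) with hN₁
  set θ : N₁ →* MulAut N := N.normalizerMonoidHom with hθ
  have iΦ := inv_of_characteristic hΦ
  have iW := inv_of_characteristic hW
  have iK := inv_of_characteristic hK
  have iL : ∀ x : Subgroup.normalizer (N : Set S), ∀ g ∈ L, θ x g ∈ L := by
    intro x g hg
    have hle : L ≤ L.comap (θ x).toMonoidHom := sup_le (fun a ha => hKL (iK x a ha))
      (Subgroup.zpowers_le.2 (by
        have := mul_mem hyL (hKL (hfix x))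
        rwa [mul_inv_cancel_left] at this))
    exact hle hg
  have iT : ∀ x : Subgroup.normalizer (N : Set S), ∀ g ∈ (⊤ : Subgroup N), θ x g ∈ (⊤ : Subgroup N) :=
    fun _ _ _ => Subgroup.mem_top _
  have sT : ∀ x g, θ x g * g⁻¹ ∈ L := fun x g => step_conj hS iL iT le_top (by
    have htop : L ⊔ Subgroup.zpowers v = ⊤ := by
      rw [eq_top_iff, ← hfr.gen, Subgroup.closure_le]
      rintro a (rfl | rfl | rfl | rfl)
      exacts [Subgroup.mem_sup_left hyL, Subgroup.mem_sup_right (Subgroup.mem_zpowers _),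
        Subgroup.mem_sup_left (hKL (hWK hwW)), Subgroup.mem_sup_left (hKL huK)]
    rw [← htop]
    exact card_sup_zpowers_le (hKL (hWK (hΦW hfr.pv)))) x (Subgroup.mem_top g)
  have sL : ∀ x, ∀ g ∈ L, θ x g * g⁻¹ ∈ Ku := fun x g hg =>
    step_conj hS iK iL hKL (card_sup_zpowers_le (hWK (hΦW hfr.py))) x hg
  have sK : ∀ x, ∀ g ∈ Ku, θ x g * g⁻¹ ∈ Wd := fun x g hg =>
    step_conj hS iW iK hWK (card_sup_zpowers_le (hΦW hfr.pu)) x hg
  have sW : ∀ x, ∀ g ∈ Wd, θ x g * g⁻¹ ∈ Φ := fun x g hg =>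
    step_conj hS iΦ iW hΦW (card_sup_zpowers_le hfr.pw) x hg
  -- the quotient by `Ku`
  set A := autQuot Ku with hA
  set Y := QuotientGroup.mk' Ku y with hY
  set V := QuotientGroup.mk' Ku v with hV
  have hYfix : ∀ x, A (θ x) Y = Y := fun x => by
    rw [hA, hY, autQuot_mk]
    exact (QuotientGroup.eq.2 (hfix x)).symm
  have hYp : Y ^ p = 1 := by rw [hY, ← map_pow]; exact hone Ku (hWK (hΦW hfr.py))
  have hY1 : Y ≠ 1 := fun h => hfr.hy ((QuotientGroup.eq_one_iff y).1 h)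
  have hVmove : ∀ x, A (θ x) V = V → (x : S) ∈ N := fun x h => by
    refine hmove x (QuotientGroup.eq.1 ?_)
    rw [hA, hV, autQuot_mk] at h
    exact h.symm
  have hVcoord : ∀ x, ∃ a : ZMod p, A (θ x) V = ev Y a * V := fun x => by
    obtain ⟨a, ha⟩ := exists_ev_sup (hWK (hΦW hfr.py)) (sT x v)
    refine ⟨a, ?_⟩
    rw [hA, hV, autQuot_mk, hY, ← map_ev, show θ x v = (θ x v * v⁻¹) * v by rw [inv_mul_cancel_right], map_mul]
    congr 1
    exact (QuotientGroup.eq.2 ha).symm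
  have hinner : ∀ x : Subgroup.normalizer (N : Set S), (x : S) ∈ N → ∀ r, A (θ x) r = r := by
    intro x hx r
    obtain ⟨g, rfl⟩ := QuotientGroup.mk'_surjective Ku r
    rw [hA, autQuot_mk]
    refine (QuotientGroup.eq.2 ?_).symm
    have e : θ x g = (⟨x, hx⟩ : N) * g * (⟨x, hx⟩ : N)⁻¹ := rfl
    rw [e, show g⁻¹ * ((⟨x, hx⟩ : N) * g * (⟨x, hx⟩ : N)⁻¹) = ⁅g⁻¹, (⟨x, hx⟩ : N)⁆ by
      rw [commutatorElement_def]; group]
    exact hWK (hcW _ _)
  haveI := hS.isNilpotent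
  have hlt : N < N₁ := Group.normalizerCondition_of_isNilpotent N (lt_top_iff_ne_top.2 hN)
  obtain ⟨x0', hx0', hx0N⟩ := SetLike.exists_of_lt hlt
  obtain ⟨a, ha⟩ := hVcoord ⟨x0', hx0'⟩
  have ha0 : a ≠ 0 := fun h => hx0N (hVmove ⟨x0', hx0'⟩ (by rw [ha, h, ev_zero, one_mul]))
  set x : N₁ := ev (⟨x0', hx0'⟩ : N₁) a⁻¹ with hxdef
  have hAxpow : ∀ (k : ℕ) (z : N₁), A (θ (z ^ k)) = A (θ z) ^ k := fun k z => by rw [map_pow, map_pow]
  have hxV : A (θ x) V = Y * V := by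
    rw [hxdef, ev, hAxpow, ev_iterate' ha (by rw [map_ev, hYfix]) a⁻¹.val]
    show ev (ev Y a) a⁻¹ * V = _
    rw [← ev_mul hYp, mul_inv_cancel₀ ha0, ev_one]
  have hxN : (x : S) ∉ N := fun h => hY1 (mul_eq_right.1 (hxV.symm.trans (hinner x h V)))
  have hxp : ((x ^ p : N₁) : S) ∈ N := by
    refine hVmove _ ?_
    rw [hAxpow, ev_iterate' hxV (hYfix x) p, hYp, one_mul]
  have htopN : ∀ q : N₁, ∃ (k : ZMod p) (n : N), q = incl N n * ev x k := by
    intro q
    obtain ⟨b, hb⟩ := hVcoord q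
    have h : ((q * (ev x b)⁻¹ : N₁) : S) ∈ N := by
      refine hVmove _ ?_
      have hxb : A (θ (ev x b)) V = ev Y b * V := by
        rw [ev, hAxpow, ev_iterate' hxV (hYfix x) b.val]
        rfl
      have hinv : A (θ (ev x b)⁻¹) V = (ev Y b)⁻¹ * V := by
        rw [map_inv, map_inv]
        refine (MulEquiv.symm_apply_eq (A (θ (ev x b)))).2 ?_
        rw [map_mul, map_inv, map_ev, hYfix, hxb, inv_mul_cancel_left]
      rw [map_mul, map_mul, MulAut.mul_apply, hinv, map_mul, map_inv, map_ev, hYfix, hb, inv_mul_cancel_left]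
    refine ⟨b, ⟨_, h⟩, ?_⟩
    rw [show incl N ⟨_, h⟩ = q * (ev x b)⁻¹ from Subtype.ext rfl, inv_mul_cancel_right]
  -- the stabilizer is the automizer of `N₁`
  set C1 := Ku.map (QuotientGroup.mk' Wd) with hC1
  set C2 := L.map (QuotientGroup.mk' Wd) with hC2
  have h12 : C1 ≤ C2 := Subgroup.map_mono hKL
  set Q' : Subgroup (MulAut N) := (stab C1 C2 h12).comap (autQuot Wd) ⊓ autL F N with hQ'
  have hQ'p : IsPGroup p Q' := by
    intro g
    obtain ⟨k, hk⟩ := isPGroup_ker_autQuot hG Wd hWf ⟨(g : MulAut N) ^ p, by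
      show autQuot Wd ((g : MulAut N) ^ p) = 1
      rw [map_pow]
      exact stab_pow hexp (by omega) (h := h12) g.2.1⟩
    refine ⟨k + 1, Subtype.ext ?_⟩
    rw [Subgroup.coe_pow, pow_succ', pow_mul]
    exact congrArg Subtype.val hk
  have hθQ : ∀ z : N₁, θ z ∈ Q' := fun z => by
    refine ⟨⟨?_, ?_, fun r => ?_⟩, conj_mem_autL z⟩
    · rintro _ ⟨g, hg, rfl⟩
      rw [autQuot_mk]
      refine (QuotientGroup.eq.2 ?_).symm
      have h := Subgroup.Normal.conj_mem (inferInstance : Wd.Normal) _ (sK z g hg) g⁻¹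
      rwa [inv_inv, show g⁻¹ * (θ z g * g⁻¹) * g = g⁻¹ * θ z g by group] at h
    · rintro _ ⟨g, hg, rfl⟩
      rw [autQuot_mk, mul_comm, ← map_inv, ← map_mul]
      exact ⟨_, sL z g hg, rfl⟩
    · obtain ⟨g, rfl⟩ := QuotientGroup.mk'_surjective Wd r
      rw [autQuot_mk, mul_comm, ← map_inv, ← map_mul]
      exact ⟨_, sT z g, rfl⟩
  haveI := finite_of_le (om_le N)
  have hsyl : ∀ γ ∈ Q', ∃ z : N₁, γ = θ z := by
    intro γ hγ
    obtain ⟨R, hR⟩ := (fullyNormalized_imp hS hF hNF).2.2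
    have hP : IsPGroup p ((Q'.subgroupOf (autL F N)).map (autEquiv N).toMonoidHom) :=
      (hQ'p.comap_of_injective _ (autL F N).subtype_injective).map _
    have hRle : (R : Subgroup (F.autGroup (om N))) ≤ (Q'.subgroupOf (autL F N)).map (autEquiv N).toMonoidHom := by
      intro z hz
      obtain ⟨b, rfl⟩ := (autEquiv N).surjective z
      rw [hR] at hz
      obtain ⟨k, hk⟩ := exists_of_induced (Subgroup.mem_subgroupOf.1 hz)
      have hkN : k ∈ N₁ := Cfsg.Agent.FusionSys.mem_normalizer_of_conj_mem_finite fun e he => by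
        rw [← hk ⟨e, he⟩]; exact ((b : MulAut N) _).2
      refine ⟨b, ?_, rfl⟩
      show (b : MulAut N) ∈ Q'
      rw [show (b : MulAut N) = θ ⟨k, hkN⟩ from MulEquiv.ext fun e => Subtype.ext (hk e)]
      exact hθQ _
    have heq := R.is_maximal' hP hRle
    have hγR : autEquiv N ⟨γ, hγ.2⟩ ∈ (R : Subgroup _) := heq.le ⟨⟨γ, hγ.2⟩, hγ, rfl⟩
    rw [hR] at hγR
    obtain ⟨k, hk⟩ := exists_of_induced (Subgroup.mem_subgroupOf.1 hγR)
    have hkN : k ∈ N₁ := Cfsg.Agent.FusionSys.mem_normalizer_of_conj_mem_finite fun e he => by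
      rw [← hk ⟨e, he⟩]; exact (γ _).2
    exact ⟨⟨k, hkN⟩, MulEquiv.ext fun e => Subtype.ext (hk e)⟩
  -- extension of `ψ`
  have hψQ : ∀ z : N₁, ψ * θ z * ψ⁻¹ ∈ Q' := fun z => by
    refine ⟨?_, mul_mem (mul_mem hψ (hθQ z).2) (Subgroup.inv_mem _ hψ)⟩
    show autQuot Wd (ψ * θ z * ψ⁻¹) ∈ stab C1 C2 h12
    rw [map_mul, map_mul, map_inv]
    have hmapeq : ∀ X : Subgroup N, X.map ψ.toMonoidHom = X →
        (X.map (QuotientGroup.mk' Wd)).map (autQuot Wd ψ).toMonoidHom = X.map (QuotientGroup.mk' Wd) := by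
      intro X hX
      conv_rhs => rw [← hX]
      rw [Subgroup.map_map, Subgroup.map_map]
      rfl
    refine stab_conj (hθQ z).1 (hmapeq Ku (Subgroup.characteristic_iff_map_eq.1 hK ψ)) (hmapeq L ?_)
    refine Subgroup.eq_of_le_of_card_ge ?_ (by rw [Subgroup.card_map_of_injective ψ.injective])
    rw [Subgroup.map_le_iff_le_comap, hL]
    refine sup_le (fun g hg => hKL (char_mem hK ψ hg)) (Subgroup.zpowers_le.2 ?_)
    have := mul_mem (ev_mem hyL (t * t)) (hKL hψy)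
    rwa [mul_inv_cancel_left] at this
  obtain ⟨b, -, hbe⟩ := exists_extend hS hF hNF hψ fun g hg => by
    obtain ⟨k, hk⟩ := hsyl _ (hψQ ⟨g, hg⟩)
    refine ⟨k, k.2, fun e he => ?_⟩
    have h := congrArg (fun γ : MulAut N => ((γ (ψ e) : N) : S)) hk
    rw [MulAut.mul_apply, MulAut.mul_apply, show ψ⁻¹ (ψ e) = e from ψ.symm_apply_apply e] at h
    exact h
  have hbincl : ∀ g : N, b (incl N g) = incl N (ψ g) := fun g => Subtype.ext (hbe g _)
  -- the quotient of `N₁`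
  set Φ1 := Φ.map (incl N) with hΦ1
  haveI hΦ1n : Φ1.Normal := map_incl_normal iΦ
  have hbΦ : Φ1.map (b : N₁ →* N₁) = Φ1 := by
    rw [hΦ1, Subgroup.map_map, show ((b : N₁ →* N₁)).comp (incl N) = (incl N).comp ψ.toMonoidHom from
      MonoidHom.ext hbincl, ← Subgroup.map_map, Subgroup.characteristic_iff_map_eq.1 hΦ ψ]
  set π : N₁ →* N₁ ⧸ Φ1 := QuotientGroup.mk' Φ1 with hπ
  set z : N →* N₁ ⧸ Φ1 := π.comp (incl N) with hz
  have hker : ∀ g : N, z g = 1 ↔ g ∈ Φ := fun g => by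
    refine (QuotientGroup.eq_one_iff _).trans ?_
    exact Subgroup.mem_map_iff_mem incl_injective
  have hz1 : ∀ {g : N}, g ∈ Φ → z g = 1 := fun h => (hker _).2 h
  have hzeq : ∀ {g g' : N}, g⁻¹ * g' ∈ Φ → z g = z g' := fun {g g'} h => by
    rw [← inv_mul_eq_one, ← map_inv, ← map_mul]; exact hz1 h
  have hrange : (incl N).range.Normal := by
    refine ⟨fun q hq r => ?_⟩
    obtain ⟨g, rfl⟩ := hq
    exact ⟨θ r g, incl_conj r g⟩
  haveI : z.range.Normal := by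
    rw [hz, MonoidHom.range_comp]
    exact hrange.map π (QuotientGroup.mk'_surjective Φ1)
  have hcl : (Subgroup.closure ({z w, z u} : Set (N₁ ⧸ Φ1))) = Ku.map z := by
    rw [hKu, hWd, Subgroup.map_sup, Subgroup.map_sup, MonoidHom.map_zpowers, MonoidHom.map_zpowers,
      (Subgroup.map_eq_bot_iff Φ).2 (fun g hg => hz1 hg), bot_sup_eq, Subgroup.zpowers_eq_closure,
      Subgroup.zpowers_eq_closure, ← Subgroup.closure_union]
    rfl
  have hclW : Subgroup.zpowers (z w) = Wd.map z := by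
    rw [hWd, Subgroup.map_sup, MonoidHom.map_zpowers, (Subgroup.map_eq_bot_iff Φ).2 (fun g hg => hz1 hg), bot_sup_eq]
  have hback : ∀ (X : Subgroup N), Φ ≤ X → ∀ g, z g ∈ X.map z → g ∈ X := by
    rintro X hX g ⟨g', hg', hgg⟩
    have h : g'⁻¹ * g ∈ Φ := (hker _).1 (by rw [map_mul, map_inv, hgg, inv_mul_cancel])
    have := mul_mem hg' (hX h)
    rwa [mul_inv_cancel_left] at this
  have hcomm : ∀ {g g' : N}, ⁅g, g'⁆ ∈ Φ → Commute (z g) (z g') := fun h => by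
    rw [← commutatorElement_eq_one_iff_commute, ← map_commutatorElement]; exact hz1 h
  have hconj : ∀ g : N, π x * z g * (π x)⁻¹ = z (θ x g) := fun g => by
    show π x * π (incl N g) * (π x)⁻¹ = π (incl N (θ x g))
    rw [incl_conj, ← map_inv, ← map_mul, ← map_mul]
  have hgenz : Subgroup.closure ({z y, z v, z w, z u} : Set (N₁ ⧸ Φ1)) = z.range := by
    rw [show ({z y, z v, z w, z u} : Set (N₁ ⧸ Φ1)) = z '' {y, v, w, u} by simp [Set.image_insert_eq],
      ← MonoidHom.map_closure, hfr.gen, ← MonoidHom.range_eq_map]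
  refine finish hsec N₁.subtype Subtype.val_injective ((hS.to_subgroup N₁).to_quotient Φ1) π
    (QuotientGroup.mk'_surjective Φ1) z.range (z y) (z v) (z w) (z u) (π x)
    (QuotientGroup.congr Φ1 Φ1 b hbΦ) s t hst hs2 hs3 hs5 hgenz ?_
    (by rw [← map_commutatorElement]; exact (hzeq hfr.yv).symm) (hcomm hfr.yw) (hcomm hfr.yu) (hcomm hfr.vw)
    (hcomm hfr.vu) (hcomm hfr.wu) (by rw [← map_pow]; exact hz1 hfr.py) (by rw [← map_pow]; exact hz1 hfr.pv)
    (by rw [← map_pow]; exact hz1 hfr.pw) (by rw [← map_pow]; exact hz1 hfr.pu)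
    (fun h => hfr.hw ((hker w).1 h)) ?_ ?_ ?_ ?_ ?_ ?_ ?_ ?_ ?_ ?_ ?_ ?_
  · rw [eq_top_iff]
    intro r _
    obtain ⟨q, rfl⟩ := QuotientGroup.mk'_surjective Φ1 r
    obtain ⟨k, n, rfl⟩ := htopN q
    rw [← hπ, map_mul, map_ev]
    exact mul_mem (Subgroup.mem_sup_left ⟨n, rfl⟩)
      (Subgroup.mem_sup_right (ev_mem (Subgroup.mem_zpowers _) k))
  · rw [hclW]
    exact fun h => hfr.hu (hback Wd hΦW u h)
  · rw [hcl]
    exact fun h => hfr.hy (hback Ku (hΦW.trans hWK) y h)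
  · rintro ⟨g, hg⟩
    obtain ⟨g', -, hgg⟩ := QuotientGroup.eq.1 (show π (incl N g) = π x from hg)
    refine hxN ?_
    have : x = incl N (g * g') := by rw [map_mul, hgg, mul_inv_cancel_left]
    rw [this]
    exact (g * g').2
  · exact ⟨⟨_, hxp⟩, by rw [← map_pow]; rfl⟩
  · rw [hconj, ← map_mul, ← map_inv, ← map_mul, hcl]
    refine ⟨_, ?_, rfl⟩
    refine (QuotientGroup.eq_one_iff _).1 (show QuotientGroup.mk' Ku ((y * v)⁻¹ * θ x v) = 1 from ?_)
    rw [map_mul, map_inv, map_mul, ← hY, ← hV, ← autQuot_mk, ← hA, ← hV, hxV, inv_mul_cancel]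
  · rw [commutatorElement_def, hconj, ← map_inv, ← map_mul, hcl]
    exact ⟨_, sL x y hyL, rfl⟩
  · refine mul_inv_eq_iff_eq_mul.1 ?_
    rw [hconj]
    refine (hzeq ?_).symm
    have h := Subgroup.Normal.conj_mem (inferInstance : Φ.Normal) _ (sW x w hwW) w⁻¹
    rwa [inv_inv, show w⁻¹ * (θ x w * w⁻¹) * w = w⁻¹ * θ x w by group] at h
  · rw [commutatorElement_def, hconj, ← map_inv, ← map_mul, hclW]
    exact ⟨_, sK x u huK, rfl⟩
  · show (ev (π (incl N y)) (t * t))⁻¹ * π (b (incl N y)) ∈ _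
    rw [hbincl, hcl, ← map_ev]
    refine ⟨_, hψy, ?_⟩
    rw [map_mul, map_inv, map_ev]
    rfl
  · show (ev (π (incl N v)) s)⁻¹ * π (b (incl N v)) ∈ _
    rw [hbincl, hcl, ← map_ev]
    refine ⟨_, hψv, ?_⟩
    rw [map_mul, map_inv, map_ev]
    rfl
  · show π (b (incl N w)) = ev (z w) t
    rw [hbincl, ← map_ev]
    exact (hzeq hψw).symm
  · show π (b (incl N u)) = z u
    rw [hbincl]
    exact (hzeq hψu).symm

end Cfsg.Agent.RankThreeEss
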