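import Cfsg.Agent.Lib.RankThreeEss.NormJ
import Cfsg.Agent.Lib.RankThreeEss.NormT
import Cfsg.Agent.Lib.RankThreeEss.Stage
import Cfsg.Agent.Lib.RankThreeEss.Line
import Cfsg.Agent.Lib.RankThreeEss.Lift

/-!
The two cases on the normalizer of a rank three essential subgroup.
-/

set_option autoImplicit false
set_option linter.unusedSectionVars false
set_option maxHeartbeats 2000000

open scoped commutatorElement
open Cfsg Cfsg.FusionSystem Cfsg.Agent.FusionSys Cfsg.Agent.MaxEss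

namespace Cfsg.Agent.RankThreeEss

theorem normalizes_of_theta {S0 : Type*} [Group S0] [Finite S0] (E₀ : Subgroup S0)
    (x : Subgroup.normalizer (nrm E₀ : Set S0))
    (h : ∀ g ∈ eIn E₀, (nrm E₀).normalizerMonoidHom x g ∈ eIn E₀) : (x : S0) ∈ nrm E₀ :=
  Cfsg.Agent.FusionSys.mem_normalizer_of_conj_mem_finite fun e he => h (lift E₀ ⟨e, he⟩) he

theorem jCore {p : ℕ} [hp : Fact p.Prime] {S0 : Type*} [Group S0] [Finite S0] (hS : IsPGroup p S0) (h5 : 5 ≤ p)
    (hsec : Cfsg.SectionalPRankLE p 3 S0) (E₀ : Subgroup S0) (hN : nrm E₀ ≠ ⊤) (y : nrm E₀) (hy : y ∉ eIn E₀)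
    (htop : eIn E₀ ⊔ Subgroup.zpowers y = ⊤) (hyp : y ^ p ∈ eIn E₀)
    (hirr : ∀ U : Subgroup E₀, frattini E₀ ≤ U → U.Characteristic → U ≤ frattini E₀ ∨ U = ⊤)
    (v c w : E₀) (hgen : Subgroup.closure ({v, c, w} : Set E₀) = ⊤)
    (hv : autQuot (frattini E₀) (conjN E₀ y) (QuotientGroup.mk' _ v) = QuotientGroup.mk' _ (c * v))
    (hc : autQuot (frattini E₀) (conjN E₀ y) (QuotientGroup.mk' _ c) = QuotientGroup.mk' _ (w * c))
    (hwy : autQuot (frattini E₀) (conjN E₀ y) (QuotientGroup.mk' _ w) = QuotientGroup.mk' _ w)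
    (hw : w ∉ frattini E₀) (hwc : ∀ t : ZMod p, (ev c t)⁻¹ * w ∉ frattini E₀)
    (hcW : c ∉ frattini E₀ ⊔ Subgroup.zpowers w) : False := by
  have hE : IsPGroup p E₀ := hS.to_subgroup E₀
  have hG : IsPGroup p (nrm E₀) := hS.to_subgroup _
  have hge := gen_lift E₀ hgen
  have hw' : lift E₀ w ∉ phi (eIn E₀) := fun h => hw ((mem_phi_lift E₀).1 h)
  have hcW' : lift E₀ c ∉ phi (eIn E₀) ⊔ Subgroup.zpowers (lift E₀ w) := fun h => by
    rw [phi_sup_one, Subgroup.mem_map_iff_mem (lift_injective E₀)] at h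
    exact hcW h
  obtain ⟨-, hK⟩ := frattiniJ hG (eIn E₀) y (lift E₀ v) (lift E₀ c) (lift E₀ w) hyp htop hge
    (rel_of E₀ hv) (rel_of E₀ hc) (rel_one E₀ hwy) hw' hcW'
  have hfE : frattini (nrm E₀) ≤ eIn E₀ := by
    rw [hK]
    exact sup_le (sup_le (phi_le _) (Subgroup.zpowers_le.2 (lift_mem E₀ w))) (Subgroup.zpowers_le.2 (lift_mem E₀ c))
  have hEle : eIn E₀ ≤ frattini (nrm E₀) ⊔ Subgroup.zpowers (lift E₀ v) := by
    rw [← hge, hK, Subgroup.closure_le]
    rintro a (rfl | rfl | rfl)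
    exacts [Subgroup.mem_sup_right (Subgroup.mem_zpowers _),
      Subgroup.mem_sup_left (Subgroup.mem_sup_right (Subgroup.mem_zpowers _)),
      Subgroup.mem_sup_left (Subgroup.mem_sup_left (Subgroup.mem_sup_right (Subgroup.mem_zpowers _)))]
  obtain ⟨k, hfix, -, x, hx⟩ := exists_line hS hN (frattini (nrm E₀)) le_rfl (eIn E₀) hfE y (lift E₀ v) hy
    (lift_mem E₀ v) hEle htop (normalizes_of_theta E₀)
  set y' : nrm E₀ := y * ev (lift E₀ v) k with hy'
  have hy'e : autQuot (frattini E₀) (conjN E₀ y') = autQuot (frattini E₀) (conjN E₀ y) := by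
    rw [hy', ← map_ev (lift E₀)]
    exact conjN_mul_lift E₀ hE y _
  have hyp' : y' ^ p ∈ eIn E₀ := hfE (Cfsg.Agent.PGroupBasics.pow_mem_frattini hG y')
  have htop' : eIn E₀ ⊔ Subgroup.zpowers y' = ⊤ := by
    rw [eq_top_iff, ← htop]
    refine sup_le le_sup_left (Subgroup.zpowers_le.2 ?_)
    have := mul_mem (Subgroup.mem_sup_right (S := eIn E₀) (Subgroup.mem_zpowers y'))
      (Subgroup.mem_sup_left (T := Subgroup.zpowers y') (inv_mem (ev_mem (lift_mem E₀ v) k)))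
    rwa [hy', mul_inv_cancel_right] at this
  rw [← hy'e] at hv hc hwy
  obtain ⟨-, hK'⟩ := frattiniJ hG (eIn E₀) y' (lift E₀ v) (lift E₀ c) (lift E₀ w) hyp' htop' hge
    (rel_of E₀ hv) (rel_of E₀ hc) (rel_one E₀ hwy) hw' hcW'
  refine jNorm hG h5 hsec (nrm E₀).subtype Subtype.val_injective (eIn E₀) (irr_transfer (eInEquiv E₀) hirr)
    ((nrm E₀).normalizerMonoidHom x) y' (lift E₀ v) (lift E₀ c) (lift E₀ w) hyp' htop' hge
    (rel_of E₀ hv) (rel_of E₀ hc) (rel_one E₀ hwy) hw' (fun t h => hwc t ?_) hcW' ?_ ?_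
  · rw [← map_ev, ← map_inv, ← map_mul] at h
    exact (mem_phi_lift E₀).1 h
  · rw [← hK']
    exact hfix x
  · rw [← hK']
    exact hx

variable {Ω : Type*} [Group Ω] {S : Subgroup Ω} [Finite S] {F : FusionSystem S} {p : ℕ} [hp : Fact p.Prime]

theorem tCore (hS : IsPGroup p S) (hF : F.IsSaturated p) (h5 : 5 ≤ p) (hsec : Cfsg.SectionalPRankLE p 3 S)
    (E₀ : Subgroup S) (hEF : F.IsFullyNormalized (om E₀)) (hNF : F.IsFullyNormalized (om (nrm E₀)))
    (hN : nrm E₀ ≠ ⊤) (hker : ∀ g : nrm E₀, autQuot (frattini E₀) (conjN E₀ g) = 1 → g ∈ eIn E₀)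
    (y : nrm E₀) (hy : y ∉ eIn E₀) (htop : eIn E₀ ⊔ Subgroup.zpowers y = ⊤) (hyp : y ^ p ∈ eIn E₀)
    (v w u : E₀) (hgen : Subgroup.closure ({v, w, u} : Set E₀) = ⊤)
    (hv : autQuot (frattini E₀) (conjN E₀ y) (QuotientGroup.mk' _ v) = QuotientGroup.mk' _ (w * v))
    (hwy : autQuot (frattini E₀) (conjN E₀ y) (QuotientGroup.mk' _ w) = QuotientGroup.mk' _ w)
    (huy : autQuot (frattini E₀) (conjN E₀ y) (QuotientGroup.mk' _ u) = QuotientGroup.mk' _ u)
    (hw : w ∉ frattini E₀) (hu : u ∉ frattini E₀ ⊔ Subgroup.zpowers w)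
    (hvv : v ∉ frattini E₀ ⊔ Subgroup.zpowers w ⊔ Subgroup.zpowers u)
    (β : MulAut E₀) (hβw : (v * w)⁻¹ * β w ∈ frattini E₀) (hβu : u⁻¹ * β u ∈ frattini E₀)
    (hβv : v⁻¹ * β v ∈ frattini E₀)
    (η : MulAut E₀) (hη : η ∈ autL F E₀)
    (hηn : ∀ g : nrm E₀, ∃ k : nrm E₀, η * conjN E₀ g * η⁻¹ = conjN E₀ k)
    (s t : ZMod p) (hst : s * t = 1) (hs2 : s * s ≠ 1) (hs3 : s * s * s ≠ 1) (hs5 : s * s * s * s * s ≠ 1)
    (hηy : autQuot (frattini E₀) (η * conjN E₀ y * η⁻¹) = autQuot (frattini E₀) (conjN E₀ (ev y (t * t))))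
    (hηv : (ev v s)⁻¹ * η v ∈ frattini E₀) (hηw : (ev w t)⁻¹ * η w ∈ frattini E₀)
    (hηu : u⁻¹ * η u ∈ frattini E₀) : False := by
  have hE : IsPGroup p E₀ := hS.to_subgroup E₀
  have hG : IsPGroup p (nrm E₀) := hS.to_subgroup _
  have hge := gen_lift E₀ hgen
  set Φ := phi (eIn E₀) with hΦdef
  set v' := lift E₀ v with hv'
  set w' := lift E₀ w with hw'
  set u' := lift E₀ u with hu'
  -- the torus element on the normalizer
  obtain ⟨ψ, hψA, hψe⟩ := exists_extend hS hF hEF hη fun g hg => by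
    obtain ⟨k, hk⟩ := hηn ⟨g, hg⟩
    refine ⟨k, k.2, fun e he => ?_⟩
    have h := congrArg (fun γ : MulAut E₀ => ((γ (η e) : E₀) : S)) hk
    rw [MulAut.mul_apply, MulAut.mul_apply, show η⁻¹ (η e) = e from η.symm_apply_apply e] at h
    exact h
  have hψl : ∀ a : E₀, ψ (lift E₀ a) = lift E₀ (η a) := fun a => Subtype.ext (hψe a _)
  have hψE : (eIn E₀).map ψ.toMonoidHom = eIn E₀ := by
    refine Subgroup.eq_of_le_of_card_ge ?_ (Subgroup.card_map_of_injective ψ.injective).ge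
    rintro _ ⟨g, hg, rfl⟩
    show ψ g ∈ eIn E₀
    rw [show g = lift E₀ ⟨g, hg⟩ from rfl, hψl]
    exact lift_mem E₀ _
  have hψc : ∀ g, conjN E₀ (ψ g) = η * conjN E₀ g * η⁻¹ := fun g => MulEquiv.ext fun a => by
    obtain ⟨b, rfl⟩ := η.surjective a
    refine lift_injective E₀ ?_
    rw [MulAut.mul_apply, MulAut.mul_apply, show η⁻¹ (η b) = b from η.symm_apply_apply b, lift_conjN, ← hψl,
      ← hψl, lift_conjN, map_mul, map_mul, map_inv]
  -- relations for a translate of `y`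
  have hAy : ∀ z : E₀, autQuot (frattini E₀) (conjN E₀ (y * lift E₀ z)) =
      autQuot (frattini E₀) (conjN E₀ y) := fun z => conjN_mul_lift E₀ hE y z
  have hψy : ∀ z : E₀, (ev (y * lift E₀ z) (t * t))⁻¹ * ψ (y * lift E₀ z) ∈ eIn E₀ := fun z => by
    refine hker _ ?_
    rw [map_mul (conjN E₀), map_mul (autQuot _), map_inv, map_inv, hψc, map_ev (conjN E₀), map_ev (autQuot _),
      hAy, map_mul (autQuot _) (η * _), map_mul (autQuot _) η, hAy, ← map_mul, ← map_mul, hηy, map_ev (conjN E₀),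
      map_ev (autQuot _), inv_mul_cancel]
  have hypE : ∀ z : E₀, (y * lift E₀ z) ^ p ∈ eIn E₀ := fun z => by
    refine (QuotientGroup.eq_one_iff _).1 (show QuotientGroup.mk' (eIn E₀) ((y * lift E₀ z) ^ p) = 1 from ?_)
    rw [map_pow, map_mul, show QuotientGroup.mk' (eIn E₀) (lift E₀ z) = 1 from
      (QuotientGroup.eq_one_iff _).2 (lift_mem E₀ z), mul_one, ← map_pow]
    exact (QuotientGroup.eq_one_iff _).2 hyp
  have htopz : ∀ z : E₀, eIn E₀ ⊔ Subgroup.zpowers (y * lift E₀ z) = ⊤ := fun z => by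
    rw [eq_top_iff, ← htop]
    refine sup_le le_sup_left (Subgroup.zpowers_le.2 ?_)
    have := mul_mem (Subgroup.mem_sup_right (S := eIn E₀) (Subgroup.mem_zpowers (y * lift E₀ z)))
      (Subgroup.mem_sup_left (T := Subgroup.zpowers (y * lift E₀ z)) (inv_mem (lift_mem E₀ z)))
    rwa [mul_inv_cancel_right] at this
  have hlift : ∀ {a b : E₀}, a⁻¹ * b ∈ frattini E₀ → (lift E₀ a)⁻¹ * lift E₀ b ∈ Φ := fun h => by
    rw [← map_inv, ← map_mul]; exact (mem_phi_lift E₀).2 h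
  have hw1 : w' ∉ Φ := fun h => hw ((mem_phi_lift E₀).1 h)
  have hu1 : u' ∉ Φ ⊔ Subgroup.zpowers w' := fun h => by
    rw [hΦdef, phi_sup_one, Subgroup.mem_map_iff_mem (lift_injective E₀)] at h
    exact hu h
  have hv1 : v' ∉ Φ ⊔ Subgroup.zpowers w' ⊔ Subgroup.zpowers u' := fun h => by
    rw [hΦdef, phi_sup_two, Subgroup.mem_map_iff_mem (lift_injective E₀)] at h
    exact hvv h
  set β1 : MulAut (eIn E₀) := MulAut.congr (eInEquiv E₀).symm β with hβ1
  have hβ1e : ∀ (a : eIn E₀) (b : E₀), (a : nrm E₀) = lift E₀ b → (β1 a : nrm E₀) = lift E₀ (β b) := by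
    intro a b hab
    have hb : eInEquiv E₀ a = b := lift_injective E₀ hab
    rw [← hb]
    rfl
  have hψv : (ev v' s)⁻¹ * ψ v' ∈ Φ := by
    rw [hv', hψl, ← map_ev (lift E₀)]; exact hlift hηv
  have hψw : (ev w' t)⁻¹ * ψ w' ∈ Φ := by
    rw [hw', hψl, ← map_ev (lift E₀)]; exact hlift hηw
  have hψu : u'⁻¹ * ψ u' ∈ Φ := by
    rw [hu', hψl]; exact hlift hηu
  have hT : ∀ z : E₀, (y * lift E₀ z) ^ p ∈ Φ ∧ Φ.Characteristic ∧
      frattini (nrm E₀) = Φ ⊔ Subgroup.zpowers w' ∧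
      (Φ ⊔ Subgroup.zpowers w' ⊔ Subgroup.zpowers u').Characteristic := fun z =>
    tNorm hG h5 hsec (nrm E₀).subtype Subtype.val_injective (eIn E₀) (y * lift E₀ z) v' w' u' (hypE z) (htopz z)
      hge (rel_of E₀ (by rw [hAy]; exact hv)) (rel_one E₀ (by rw [hAy]; exact hwy))
      (rel_one E₀ (by rw [hAy]; exact huy)) hw1 hu1 hv1 β1
      (fun a ha => by rw [hβ1e a w ha, hv', hw', ← map_mul]; exact hlift hβw)
      (fun a ha => by rw [hβ1e a u ha]; exact hlift hβu)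
      (fun a ha => by rw [hβ1e a v ha]; exact hlift hβv)
      ψ hψE s t hst hs2 (hψy z) hψv hψw hψu
  obtain ⟨-, hΦc, hWf, hKc⟩ := hT 1
  have hWc : (Φ ⊔ Subgroup.zpowers w').Characteristic := by
    rw [← hWf]; infer_instance
  set Ku := Φ ⊔ Subgroup.zpowers w' ⊔ Subgroup.zpowers u' with hKu
  have hΦK : Φ ≤ Ku := le_sup_left.trans le_sup_left
  have hKE : Ku ≤ eIn E₀ := sup_le (sup_le (phi_le _) (Subgroup.zpowers_le.2 (lift_mem E₀ w)))
    (Subgroup.zpowers_le.2 (lift_mem E₀ u))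
  have hfK : frattini (nrm E₀) ≤ Ku := by rw [hWf]; exact le_sup_left
  have hΦf : Φ ≤ frattini (nrm E₀) := by rw [hWf]; exact le_sup_left
  have hframe : ∀ z : E₀, Frame p Φ (y * lift E₀ z) v' w' u' := fun z => by
    refine ⟨?_, rel_of E₀ (by rw [hAy]; exact hv), rel_one E₀ (by rw [hAy]; exact hwy),
      rel_one E₀ (by rw [hAy]; exact huy), comm_mem_phi hG (lift_mem E₀ v) (lift_mem E₀ w),
      comm_mem_phi hG (lift_mem E₀ v) (lift_mem E₀ u), comm_mem_phi hG (lift_mem E₀ w) (lift_mem E₀ u),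
      (hT z).1, pow_mem_phi hG (lift_mem E₀ v), pow_mem_phi hG (lift_mem E₀ w), pow_mem_phi hG (lift_mem E₀ u),
      hw1, hu1, fun h => hy ?_⟩
    · rw [eq_top_iff, ← htopz z, ← hge]
      exact sup_le (Subgroup.closure_mono (by intro a; simp; tauto))
        (Subgroup.zpowers_le.2 (Subgroup.subset_closure (by simp)))
    · have := mul_mem (hKE h) (inv_mem (lift_mem E₀ z))
      rwa [mul_inv_cancel_right] at this
  have hEle : eIn E₀ ≤ Ku ⊔ Subgroup.zpowers v' := by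
    rw [← hge, Subgroup.closure_le]
    rintro a (rfl | rfl | rfl)
    exacts [Subgroup.mem_sup_right (Subgroup.mem_zpowers _),
      Subgroup.mem_sup_left (Subgroup.mem_sup_left (Subgroup.mem_sup_right (Subgroup.mem_zpowers _))),
      Subgroup.mem_sup_left (Subgroup.mem_sup_right (Subgroup.mem_zpowers _))]
  haveI := hKc
  obtain ⟨k, hfix, hmove, x1, hx1⟩ := exists_line hS hN Ku hfK (eIn E₀) hKE y v' hy (lift_mem E₀ v) hEle htop
    (normalizes_of_theta E₀)
  obtain ⟨z, hz⟩ : ∃ z : E₀, ev v' k = lift E₀ z := ⟨ev v k, (map_ev _ _).symm⟩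
  set y₁ : nrm E₀ := y * ev v' k with hy₁
  have hy₁E : y₁ ∉ eIn E₀ := fun h => hy (by
    have := mul_mem h (inv_mem (ev_mem (lift_mem E₀ v) k))
    rwa [hy₁, mul_inv_cancel_right] at this)
  -- the quotient by `Ku`
  letI : CommGroup (nrm E₀ ⧸ Ku) := { (inferInstance : Group (nrm E₀ ⧸ Ku)) with
    mul_comm := fun a b => by
      obtain ⟨a, rfl⟩ := QuotientGroup.mk'_surjective Ku a
      obtain ⟨b, rfl⟩ := QuotientGroup.mk'_surjective Ku b
      refine commutatorElement_eq_one_iff_mul_comm.1 ?_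
      rw [← map_commutatorElement]
      exact (QuotientGroup.eq_one_iff _).2 (hfK (commutator_mem_frattini hG a b)) }
  have hexp : ∀ r : nrm E₀ ⧸ Ku, r ^ p = 1 := fun r => by
    obtain ⟨g, rfl⟩ := QuotientGroup.mk'_surjective Ku r
    rw [← map_pow]
    exact (QuotientGroup.eq_one_iff _).2 (hfK (Cfsg.Agent.PGroupBasics.pow_mem_frattini hG g))
  set A := autQuot Ku with hA
  set π := QuotientGroup.mk' Ku with hπ
  set Y := π y₁ with hY
  set V := π v' with hV
  have hA' : ∀ (a : MulAut (nrm E₀)) (g : nrm E₀), A a (π g) = π (a g) := fun _ _ => rfl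
  have hind : ∀ i l : ZMod p, ev Y i * ev V l = 1 → i = 0 ∧ l = 0 := by
    intro i l h
    rw [hY, hV, ← map_ev, ← map_ev, ← map_mul] at h
    have h' := (QuotientGroup.eq_one_iff _).1 h
    have hi : i = 0 := by
      by_contra hi
      refine hy₁E ?_
      have h1 : ev y₁ i ∈ eIn E₀ :=
        (Subgroup.mul_mem_cancel_right _ (ev_mem (lift_mem E₀ v) l)).1 (hKE h')
      have h3 : ev (QuotientGroup.mk' (eIn E₀) y₁) i = 1 := by
        rw [← map_ev]; exact (QuotientGroup.eq_one_iff _).2 h1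
      by_contra hne
      refine hi (ev_eq_one (p := p) ?_ (fun h => hne ((QuotientGroup.eq_one_iff _).1 h)) h3)
      show QuotientGroup.mk' (eIn E₀) y₁ ^ p = 1
      rw [← map_pow]
      refine (QuotientGroup.eq_one_iff _).2 ?_
      rw [hy₁, hz]
      exact hypE z
    refine ⟨hi, ?_⟩
    rw [hi, ev_zero, one_mul] at h'
    by_contra hl
    refine hv1 ?_
    have h3 : ev V l = 1 := by rw [hV, ← map_ev]; exact (QuotientGroup.eq_one_iff _).2 h'
    have hV1 : V = 1 := by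
      rw [← ev_one (p := p) (x := V), ← mul_inv_cancel₀ hl, ev_mul (hexp V), h3, ev_one_left]
    exact (QuotientGroup.eq_one_iff _).1 hV1
  have hYfix : ∀ x, A ((nrm E₀).normalizerMonoidHom x) Y = Y := fun x => by
    rw [hY, hA']; exact (QuotientGroup.eq.2 (hfix x)).symm
  have hxV : A ((nrm E₀).normalizerMonoidHom x1) V = Y * V := by
    rw [hV, hA', hY, mul_comm, ← map_mul]; exact (QuotientGroup.eq.2 hx1).symm
  obtain ⟨n, hn⟩ := exists_ev_sup (H := Ku) (a := v') (hfK (Cfsg.Agent.PGroupBasics.pow_mem_frattini hG v'))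
    (hEle (show (ev y₁ (t * t))⁻¹ * ψ y₁ ∈ eIn E₀ by rw [hy₁, hz]; exact hψy z))
  have hs1 : s ≠ 1 := fun h => hs2 (by rw [h, mul_one])
  have ht0 : t ≠ 0 := fun h => by rw [h, mul_zero] at hst; exact zero_ne_one hst
  have hs0 : s ≠ 0 := fun h => by rw [h, zero_mul] at hst; exact zero_ne_one hst
  have ht3 : t * t * t - 1 ≠ 0 := fun h => hs3 (by
    linear_combination ((s * t) * (s * t) + s * t + 1) * hst - s * s * s * h)
  by_cases hn0 : n = 0
  · rw [hn0, ev_zero, inv_one, one_mul] at hn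
    rw [hy₁, hz] at hfix hn
    exact stage2 hS hF h5 hsec hNF hN hΦc hΦf (y * lift E₀ z) v' w' u' (hframe z) hWc hKc hψA s t hst hs2 hs3
      hs5 hn (hΦK hψv) hψw hψu hfix hmove
  -- move the eigenline to the fixed line
  set m := t * t with hm
  set m' := s * s with hm'
  have hmm : m * m' = 1 := by rw [hm, hm']; linear_combination (t * s + 1) * hst
  have hψY : A ψ Y = ev Y m * ev V n := by
    rw [hY, hA', hV, ← map_ev, ← map_ev, ← map_mul]
    refine (QuotientGroup.eq.2 ?_).symm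
    rwa [mul_inv_rev, mul_assoc]
  have hψV : A ψ V = ev V s := by
    rw [hV, hA', ← map_ev]; exact (QuotientGroup.eq.2 (hΦK hψv)).symm
  obtain ⟨Y', hY'⟩ : ∃ r, r = ev Y m * ev V n := ⟨_, rfl⟩
  rw [← hY'] at hψY
  set θ1 : MulAut (nrm E₀) := (nrm E₀).normalizerMonoidHom x1 with hθ1
  obtain ⟨γ0, hγ0⟩ : ∃ γ : MulAut (nrm E₀), γ = ψ * θ1 * ψ⁻¹ := ⟨_, rfl⟩
  have hγY : A γ0 Y' = Y' := by
    rw [hγ0, map_mul, map_mul, map_inv, MulAut.mul_apply, MulAut.mul_apply,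
      show (A ψ)⁻¹ Y' = Y from (MulEquiv.symm_apply_eq (A ψ)).2 hψY.symm, hYfix, hψY]
  have hγV : A γ0 V = ev Y' t * V := by
    have e : (A ψ)⁻¹ V = ev V t := (MulEquiv.symm_apply_eq (A ψ)).2 (by
      rw [map_ev, hψV, ← ev_mul (hexp V), hst, ev_one])
    rw [hγ0, map_mul, map_mul, map_inv, MulAut.mul_apply, MulAut.mul_apply, e, map_ev, hxV, map_ev, map_mul,
      hψY, hψV, mul_ev, ← ev_mul (hexp V), hst, ev_one]
  set i : ZMod p := -(t * t) / n with hi
  obtain ⟨τ, hτ⟩ : ∃ τ : MulAut (nrm E₀), τ = ev γ0 i := ⟨_, rfl⟩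
  have hτA : A τ = ev (A γ0) i := by rw [hτ]; exact map_ev A i
  have hni : n * i = -(t * t) := by rw [hi, mul_div_cancel₀ _ hn0]
  have hτY : A τ Y' = Y' := by
    rw [hτA]
    have := ev_apply (γ := A γ0) (r := Y') (q := 1) (by rw [one_mul]; exact hγY) (map_one _) i
    rwa [ev_one_left, one_mul] at this
  have hτV : A τ V = ev Y' (t * i) * V := by
    rw [hτA, ev_apply hγV (by rw [map_ev, hγY]), ← ev_mul (hexp Y')]
  set t' : ZMod p := n * t / (t * t * t - 1) with ht'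
  set q := y₁ * ev v' t' with hq
  have hqA : π q = Y * ev V t' := by rw [hq, map_mul, map_ev]
  set M : ZMod p := m' + t * i * (t' - n * m') with hM
  have htd : t' * (t * t * t - 1) = n * t := by rw [ht', div_mul_cancel₀ _ ht3]
  have hMn : n * M + t' - n * m' = 0 := by
    rw [hM, hm']
    linear_combination (t * (t' - n * (s * s))) * hni - htd + (n * t * (s * t + 1)) * hst
  set cY : ZMod p := m * M with hcY
  have hτq : A τ (π q) = ev Y cY := by
    have hYe : Y = ev Y' m' * ev V (-(n * m')) := by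
      rw [hY', mul_ev, ← ev_mul (hexp Y), hmm, ev_one, ← ev_mul (hexp V), mul_assoc, ← ev_add (hexp V),
        show n * m' + -(n * m') = 0 by ring, ev_zero, mul_one]
    have hq' : π q = ev Y' m' * ev V (t' - n * m') := by
      rw [hqA, hYe, mul_assoc, ← ev_add (hexp V), show -(n * m') + t' = t' - n * m' by ring]
    rw [hq', map_mul, map_ev, map_ev, hτY, hτV, mul_ev, ← ev_mul (hexp Y'), ← mul_assoc, ← ev_add (hexp Y'),
      ← hM, hY', mul_ev, ← ev_mul (hexp Y), ← hcY, ← ev_mul (hexp V), mul_assoc, ← ev_add (hexp V),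
      show n * M + (t' - n * m') = 0 by linear_combination hMn, ev_zero, mul_one]
  have hcY0 : cY ≠ 0 := by
    intro h
    rw [h, ev_zero, map_eq_one_iff _ (A τ).injective, hqA] at hτq
    exact one_ne_zero (hind 1 t' (by rw [ev_one]; exact hτq)).1
  have hγmem : τ ∈ autL F (nrm E₀) := by
    rw [hτ, hγ0]
    exact ev_mem (Subgroup.mul_mem _ (Subgroup.mul_mem _ hψA (conj_mem_autL x1)) (Subgroup.inv_mem _ hψA)) i
  have hnts : n + s * t' = t' * m := by
    rw [hm]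
    refine mul_left_cancel₀ ht0 ?_
    linear_combination t' * hst - htd
  have hψq : A ψ (π q) = ev (π q) m := by
    rw [hqA, map_mul, map_ev, hψY, hψV, hY', mul_ev, ← ev_mul (hexp V), ← ev_mul (hexp V), mul_assoc,
      ← ev_add (hexp V), hnts]
  obtain ⟨z', hz'⟩ : ∃ z' : E₀, q = y * lift E₀ z' :=
    ⟨ev v k * ev v t', by rw [hq, hy₁, map_mul, map_ev, map_ev, mul_assoc]⟩
  have hfr : Frame p Φ (τ q) (τ v') (τ w') (τ u') := by
    rw [hz']
    exact (hframe z').map hΦc τ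
  set ψ' : MulAut (nrm E₀) := τ * ψ * τ⁻¹ with hψ'
  have hψ'e : ∀ g, ψ' (τ g) = τ (ψ g) := fun g => by
    rw [hψ', MulAut.mul_apply, MulAut.mul_apply, show τ⁻¹ (τ g) = g from τ.symm_apply_apply g]
  have hWe : Φ ⊔ Subgroup.zpowers (τ w') = Φ ⊔ Subgroup.zpowers w' := by
    conv_rhs => rw [← Subgroup.characteristic_iff_map_eq.1 hWc τ]
    rw [Subgroup.map_sup, MonoidHom.map_zpowers, Subgroup.characteristic_iff_map_eq.1 hΦc τ]
    rfl
  have hKe : Φ ⊔ Subgroup.zpowers (τ w') ⊔ Subgroup.zpowers (τ u') = Ku := by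
    conv_rhs => rw [← Subgroup.characteristic_iff_map_eq.1 hKc τ]
    rw [hKu, Subgroup.map_sup, Subgroup.map_sup, MonoidHom.map_zpowers, MonoidHom.map_zpowers,
      Subgroup.characteristic_iff_map_eq.1 hΦc τ]
    rfl
  refine stage2 hS hF h5 hsec hNF hN hΦc hΦf (τ q) (τ v') (τ w') (τ u') hfr (by rw [hWe]; exact hWc)
    (by rw [hKe]; exact hKc) (Subgroup.mul_mem _ (Subgroup.mul_mem _ hγmem hψA) (Subgroup.inv_mem _ hγmem))
    s t hst hs2 hs3 hs5 ?_ ?_ ?_ ?_ ?_ ?_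
  · rw [hKe, hψ'e, ← map_ev, ← map_inv, ← map_mul]
    refine char_mem hKc τ (QuotientGroup.eq.1 (show π (ev q m) = π (ψ q) from ?_))
    rw [map_ev, ← hA', hψq]
  · rw [hKe, hψ'e, ← map_ev, ← map_inv, ← map_mul]
    exact char_mem hKc τ (hΦK hψv)
  · rw [hψ'e, ← map_ev, ← map_inv, ← map_mul]
    exact char_mem hΦc τ hψw
  · rw [hψ'e, ← map_inv, ← map_mul]
    exact char_mem hΦc τ hψu
  · intro x
    rw [hKe]
    refine QuotientGroup.eq.1 (show π (τ q) = π _ from ?_)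
    rw [← hA' ((nrm E₀).normalizerMonoidHom x), ← hA', hτq, map_ev, hYfix]
  · intro x hx
    rw [hKe] at hx
    refine hmove x (QuotientGroup.eq.1 (show π v' = π _ from ?_))
    have h := QuotientGroup.eq.2 hx
    have h1 : A ((nrm E₀).normalizerMonoidHom x) (A τ V) = A τ V := by
      rw [hV, hA', hA']; exact h.symm
    rw [hτV, hY', mul_ev, ← ev_mul (hexp Y), ← ev_mul (hexp V), mul_assoc] at h1
    have e2 : ev V (n * (t * i)) * V = ev V (1 - t * t * t) := by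
      conv_lhs => rw [← ev_one (p := p) (x := V), ← ev_mul (hexp V), ← ev_add (hexp V)]
      congr 1
      linear_combination t * hni
    rw [e2, map_mul, map_ev, map_ev, hYfix, mul_right_inj] at h1
    have hne : (1 : ZMod p) - t * t * t ≠ 0 := fun h => ht3 (by linear_combination -h)
    have h3 := congrArg (fun r => ev r (1 - t * t * t)⁻¹) h1
    rw [← ev_mul (hexp _), ← ev_mul (hexp _), mul_inv_cancel₀ hne, ev_one, ev_one] at h3
    rw [← hA', ← hV, h3]

end Cfsg.Agent.RankThreeEss
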